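import Mathlib
import Cfsg.Agent.Lib.Coprime.Action
import Cfsg.Agent.Lib.Coprime.Generation

/-!
Subgroups generated by commutators with one element `a` normalizing `H`: `cm a h`, their join `dd a H`,
and the subgroup `kk a H` generated by the fixed points of the `cm a h`.
-/

set_option autoImplicit false

open Pointwise
open scoped commutatorElement

namespace CfsgLib.FixedGen

variable {G : Type*} [Group G]

/-- `[h, ⟨a⟩]`. -/
def cm (a h : G) : Subgroup G :=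
  Subgroup.closure {c : G | ∃ i : ℕ, c = h⁻¹ * (a ^ i * h * (a ^ i)⁻¹)}

/-- `[H, ⟨a⟩]`. -/
def dd (a : G) (H : Subgroup G) : Subgroup G :=
  Subgroup.closure {c : G | ∃ h ∈ H, ∃ i : ℕ, c = h⁻¹ * (a ^ i * h * (a ^ i)⁻¹)}

/-- The join of the fixed points of the `cm a h`. -/
def kk (a : G) (H : Subgroup G) : Subgroup G :=
  ⨆ h : H, cm a (h : G) ⊓ Subgroup.centralizer {a}

theorem gen_mem_cm (a h : G) (i : ℕ) : h⁻¹ * (a ^ i * h * (a ^ i)⁻¹) ∈ cm a h :=
  Subgroup.subset_closure ⟨i, rfl⟩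

theorem gen_one_mem_cm (a h : G) : h⁻¹ * (a * h * a⁻¹) ∈ cm a h := by
  simpa using gen_mem_cm a h 1

theorem gen_mem_dd {a h : G} {H : Subgroup G} (hh : h ∈ H) (i : ℕ) :
    h⁻¹ * (a ^ i * h * (a ^ i)⁻¹) ∈ dd a H :=
  Subgroup.subset_closure ⟨h, hh, i, rfl⟩

theorem cm_le_dd {a h : G} {H : Subgroup G} (hh : h ∈ H) : cm a h ≤ dd a H :=
  (Subgroup.closure_le _).mpr fun c ⟨i, hc⟩ => hc ▸ gen_mem_dd hh i

theorem dd_mono {a : G} {M H : Subgroup G} (hMH : M ≤ H) : dd a M ≤ dd a H :=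
  Subgroup.closure_mono fun _ ⟨h, hh, i, hc⟩ => ⟨h, hMH hh, i, hc⟩

theorem cm_inf_le_kk {a h : G} {H : Subgroup G} (hh : h ∈ H) :
    cm a h ⊓ Subgroup.centralizer {a} ≤ kk a H :=
  le_iSup (fun h : H => cm a (h : G) ⊓ Subgroup.centralizer {a}) ⟨h, hh⟩

theorem kk_mono {a : G} {M H : Subgroup G} (hMH : M ≤ H) : kk a M ≤ kk a H :=
  iSup_le fun h => cm_inf_le_kk (hMH h.2)

theorem kk_le_centralizer (a : G) (H : Subgroup G) : kk a H ≤ Subgroup.centralizer {a} :=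
  iSup_le fun _ => inf_le_right

theorem conj_pow_mem {a : G} {H : Subgroup G} (hN : a ∈ Subgroup.normalizer (H : Set G)) {h : G}
    (hh : h ∈ H) (i : ℕ) : a ^ i * h * (a ^ i)⁻¹ ∈ H :=
  (Subgroup.mem_normalizer_iff.mp (pow_mem hN i) h).mp hh

theorem dd_le {a : G} {H : Subgroup G} (hN : a ∈ Subgroup.normalizer (H : Set G)) : dd a H ≤ H :=
  (Subgroup.closure_le _).mpr fun _ ⟨_, hh, i, hc⟩ =>
    hc ▸ mul_mem (inv_mem hh) (conj_pow_mem hN hh i)

theorem cm_le {a h : G} {H : Subgroup G} (hN : a ∈ Subgroup.normalizer (H : Set G)) (hh : h ∈ H) :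
    cm a h ≤ H :=
  (cm_le_dd hh).trans (dd_le hN)

theorem kk_le {a : G} {H : Subgroup G} (hN : a ∈ Subgroup.normalizer (H : Set G)) : kk a H ≤ H :=
  iSup_le fun h => inf_le_left.trans (cm_le hN h.2)

theorem mem_centralizer_self_iff {a x : G} :
    x ∈ Subgroup.centralizer ({a} : Set G) ↔ a * x = x * a := by
  rw [Subgroup.mem_centralizer_iff]
  simp

theorem conj_eq_of_commute {a x : G} (h : a * x = x * a) : a * x * a⁻¹ = x := by
  rw [h]; group

theorem commute_of_conj_eq {a x : G} (h : a * x * a⁻¹ = x) : a * x = x * a :=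
  mul_inv_eq_iff_eq_mul.mp h

theorem centralizer_zpowers (a : G) :
    Subgroup.centralizer ((Subgroup.zpowers a : Subgroup G) : Set G) = Subgroup.centralizer {a} := by
  rw [Subgroup.zpowers_eq_closure, Subgroup.centralizer_closure]

/-- An element moving the generators of a finite subgroup into it normalizes it. -/
theorem mem_normalizer_closure [Finite G] {g : G} {s : Set G}
    (h : ∀ x ∈ s, g * x * g⁻¹ ∈ Subgroup.closure s) :
    g ∈ Subgroup.normalizer (Subgroup.closure s : Set G) := by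
  rw [Subgroup.mem_normalizer_iff]
  have hle : (Subgroup.closure s).map (MulAut.conj g).toMonoidHom ≤ Subgroup.closure s := by
    rw [MonoidHom.map_closure, Subgroup.closure_le]
    rintro _ ⟨x, hx, rfl⟩
    exact h x hx
  have heq : (Subgroup.closure s).map (MulAut.conj g).toMonoidHom = Subgroup.closure s :=
    Subgroup.eq_of_le_of_card_ge hle
      (Subgroup.card_map_of_injective (MulAut.conj g).injective).ge
  intro x
  constructor
  · intro hx
    exact hle ⟨x, hx, rfl⟩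
  · intro hx
    have hx' := hx
    rw [← heq] at hx'
    obtain ⟨y, hy, he⟩ := hx'
    have : y = x := (MulAut.conj g).injective (by simpa using he)
    exact this ▸ hy

theorem mem_normalizer_of_conj_le [Finite G] {g : G} {S : Subgroup G}
    (h : ∀ x ∈ S, g * x * g⁻¹ ∈ S) : g ∈ Subgroup.normalizer (S : Set G) := by
  have := mem_normalizer_closure (g := g) (s := (S : Set G)) (by rwa [Subgroup.closure_eq])
  rwa [Subgroup.closure_eq] at this

theorem cm_invariant [Finite G] (a h : G) : a ∈ Subgroup.normalizer (cm a h : Set G) := by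
  refine mem_normalizer_closure ?_
  rintro _ ⟨i, rfl⟩
  have e : a * (h⁻¹ * (a ^ i * h * (a ^ i)⁻¹)) * a⁻¹
      = (h⁻¹ * (a ^ 1 * h * (a ^ 1)⁻¹))⁻¹ * (h⁻¹ * (a ^ (i + 1) * h * (a ^ (i + 1))⁻¹)) := by
    rw [pow_one, pow_succ']; group
  rw [e]
  exact mul_mem (inv_mem (gen_mem_cm a h 1)) (gen_mem_cm a h (i + 1))

theorem dd_invariant [Finite G] {a : G} {H : Subgroup G}
    (hN : a ∈ Subgroup.normalizer (H : Set G)) : a ∈ Subgroup.normalizer (dd a H : Set G) := by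
  refine mem_normalizer_closure ?_
  rintro _ ⟨h, hh, i, rfl⟩
  have e : a * (h⁻¹ * (a ^ i * h * (a ^ i)⁻¹)) * a⁻¹
      = (a * h * a⁻¹)⁻¹ * (a ^ i * (a * h * a⁻¹) * (a ^ i)⁻¹) := by
    have hc : a * a ^ i = a ^ i * a := (Commute.self_pow a i).eq
    calc a * (h⁻¹ * (a ^ i * h * (a ^ i)⁻¹)) * a⁻¹
        = a * h⁻¹ * a⁻¹ * ((a * a ^ i) * h * (a * a ^ i)⁻¹) := by group
      _ = a * h⁻¹ * a⁻¹ * ((a ^ i * a) * h * (a ^ i * a)⁻¹) := by rw [hc]
      _ = (a * h * a⁻¹)⁻¹ * (a ^ i * (a * h * a⁻¹) * (a ^ i)⁻¹) := by group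
  rw [e]
  exact gen_mem_dd (by simpa using conj_pow_mem hN hh 1) i

theorem le_normalizer_dd [Finite G] (a : G) (H : Subgroup G) :
    H ≤ Subgroup.normalizer (dd a H : Set G) := by
  intro g hg
  refine mem_normalizer_closure ?_
  rintro _ ⟨h, hh, i, rfl⟩
  have e : g * (h⁻¹ * (a ^ i * h * (a ^ i)⁻¹)) * g⁻¹
      = ((h * g⁻¹)⁻¹ * (a ^ i * (h * g⁻¹) * (a ^ i)⁻¹)) *
        (g⁻¹⁻¹ * (a ^ i * g⁻¹ * (a ^ i)⁻¹))⁻¹ := by group
  rw [e]
  exact mul_mem (gen_mem_dd (mul_mem hh (inv_mem hg)) i) (inv_mem (gen_mem_dd (inv_mem hg) i))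

theorem gen_mul_fixed {a c : G} (hc : a * c = c * a) (d : G) (i : ℕ) :
    (c * d)⁻¹ * (a ^ i * (c * d) * (a ^ i)⁻¹) = d⁻¹ * (a ^ i * d * (a ^ i)⁻¹) := by
  have hi : a ^ i * c = c * a ^ i := ((show Commute a c from hc).pow_left i).eq
  calc (c * d)⁻¹ * (a ^ i * (c * d) * (a ^ i)⁻¹)
      = d⁻¹ * c⁻¹ * ((a ^ i * c) * d * (a ^ i)⁻¹) := by group
    _ = d⁻¹ * c⁻¹ * ((c * a ^ i) * d * (a ^ i)⁻¹) := by rw [hi]
    _ = d⁻¹ * (a ^ i * d * (a ^ i)⁻¹) := by group

theorem gen_fixed_mul {a c : G} (hc : a * c = c * a) (h : G) (i : ℕ) :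
    (h * c)⁻¹ * (a ^ i * (h * c) * (a ^ i)⁻¹) = c⁻¹ * (h⁻¹ * (a ^ i * h * (a ^ i)⁻¹)) * c := by
  have hi : c * (a ^ i)⁻¹ = (a ^ i)⁻¹ * c :=
    ((show Commute a c from hc).pow_left i).inv_left.eq.symm
  calc (h * c)⁻¹ * (a ^ i * (h * c) * (a ^ i)⁻¹)
      = c⁻¹ * h⁻¹ * (a ^ i * h * (c * (a ^ i)⁻¹)) := by group
    _ = c⁻¹ * h⁻¹ * (a ^ i * h * ((a ^ i)⁻¹ * c)) := by rw [hi]
    _ = c⁻¹ * (h⁻¹ * (a ^ i * h * (a ^ i)⁻¹)) * c := by group

/-- Fixed elements of `H` normalize `kk a H`. -/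
theorem fixed_le_normalizer_kk [Finite G] (a : G) (H : Subgroup G) :
    H ⊓ Subgroup.centralizer {a} ≤ Subgroup.normalizer (kk a H : Set G) := by
  rintro c ⟨hcH, hcC⟩
  refine mem_normalizer_of_conj_le fun x hx => ?_
  have hle : (kk a H).map (MulAut.conj c).toMonoidHom ≤ kk a H := by
    rw [kk, Subgroup.map_iSup]
    refine iSup_le fun h => ?_
    rintro _ ⟨y, hy, rfl⟩
    obtain ⟨hy1, hy2⟩ := hy
    refine cm_inf_le_kk (h := (h : G) * c⁻¹) (mul_mem h.2 (inv_mem hcH)) ⟨?_, ?_⟩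
    · have hle' : (cm a (h : G)).map (MulAut.conj c).toMonoidHom ≤ cm a ((h : G) * c⁻¹) := by
        rw [cm, MonoidHom.map_closure, Subgroup.closure_le]
        rintro _ ⟨_, ⟨i, rfl⟩, rfl⟩
        have := gen_mem_cm a ((h : G) * c⁻¹) i
        rw [gen_fixed_mul (mem_centralizer_self_iff.mp (inv_mem hcC))] at this
        rw [SetLike.mem_coe]
        simpa [MulAut.conj_apply] using this
      exact hle' ⟨y, hy1, rfl⟩
    · show c * y * c⁻¹ ∈ Subgroup.centralizer ({a} : Set G)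
      exact mul_mem (mul_mem hcC hy2) (inv_mem hcC)
  exact hle ⟨x, hx, rfl⟩

/-! ### Coprimality -/

theorem card_zpowers_dvd {a : G} {p : ℕ} (hap : a ^ p = 1) :
    Nat.card (Subgroup.zpowers a) ∣ p := by
  rw [Nat.card_zpowers]; exact orderOf_dvd_of_pow_eq_one hap

theorem coprime_zpowers {a : G} {p : ℕ} (hap : a ^ p = 1) {H : Subgroup G}
    (hcop : (Nat.card H).Coprime p) : (Nat.card (Subgroup.zpowers a)).Coprime (Nat.card H) :=
  hcop.symm.coprime_dvd_left (card_zpowers_dvd hap)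

theorem isSolvable_zpowers (a : G) : Group.IsSolvable (Subgroup.zpowers a) :=
  Group.isSolvable_of_comm fun x y => mul_comm' x y

/-- A fixed coset contains a fixed point. -/
theorem exists_fixed_coset [Finite G] {a : G} {p : ℕ} (hap : a ^ p = 1) {K N : Subgroup G}
    (hK : a ∈ Subgroup.normalizer (K : Set G)) (hcop : (Nat.card K).Coprime p) (hNK : N ≤ K)
    (hN : a ∈ Subgroup.normalizer (N : Set G)) {k : G} (hk : k ∈ K)
    (hfix : k⁻¹ * (a * k * a⁻¹) ∈ N) :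
    ∃ c ∈ K, a * c = c * a ∧ k⁻¹ * c ∈ N := by
  have hall : ∀ i : ℕ, k⁻¹ * (a ^ i * k * (a ^ i)⁻¹) ∈ N := by
    intro i
    induction i with
    | zero => simp
    | succ n ih =>
      have e : k⁻¹ * (a ^ (n + 1) * k * (a ^ (n + 1))⁻¹)
          = (k⁻¹ * (a * k * a⁻¹)) * (a * (k⁻¹ * (a ^ n * k * (a ^ n)⁻¹)) * a⁻¹) := by
        rw [pow_succ']; group
      rw [e]
      exact mul_mem hfix ((Subgroup.mem_normalizer_iff.mp hN _).mp ih)
  obtain ⟨c, hc, hcN⟩ := CfsgLib.Coprime.exists_centralizer_mem_coset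
    (A := Subgroup.zpowers a) (Subgroup.zpowers_le.mpr hK) (coprime_zpowers hap hcop)
    (Or.inl (isSolvable_zpowers a)) hNK (Subgroup.zpowers_le.mpr hN) hk (fun b hb => by
      obtain ⟨i, rfl⟩ := mem_powers_iff_mem_zpowers.mpr hb
      exact hall i)
  obtain ⟨hcK, hcC⟩ := hc
  exact ⟨c, hcK, hcC a (Subgroup.mem_zpowers a), hcN⟩

/-- `H = C_H(a) [H, a]`. -/
theorem exists_fixed_mul [Finite G] {a : G} {p : ℕ} (hap : a ^ p = 1) {H : Subgroup G}
    (hN : a ∈ Subgroup.normalizer (H : Set G)) (hcop : (Nat.card H).Coprime p) {h : G} (hh : h ∈ H) :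
    ∃ c ∈ H, a * c = c * a ∧ ∃ d ∈ dd a H, h = c * d := by
  have h1 : h⁻¹ * (a * h * a⁻¹) ∈ dd a H := by simpa using gen_mem_dd (a := a) hh 1
  obtain ⟨c, hc, hca, hcd⟩ := exists_fixed_coset hap hN hcop (dd_le hN) (dd_invariant hN) hh h1
  refine ⟨c, hc, hca, (h⁻¹ * c)⁻¹, inv_mem hcd, by group⟩

/-- `[H, a, a] = [H, a]`. -/
theorem dd_dd [Finite G] {a : G} {p : ℕ} (hap : a ^ p = 1) {H : Subgroup G}
    (hN : a ∈ Subgroup.normalizer (H : Set G)) (hcop : (Nat.card H).Coprime p) :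
    dd a (dd a H) = dd a H := by
  refine le_antisymm (dd_mono (dd_le hN)) ?_
  rw [dd, Subgroup.closure_le]
  rintro _ ⟨h, hh, i, rfl⟩
  obtain ⟨c, _, hca, d, hd, rfl⟩ := exists_fixed_mul hap hN hcop hh
  rw [gen_mul_fixed hca]
  exact gen_mem_dd hd i

/-! ### Homomorphisms -/

variable {G' : Type*} [Group G']

theorem map_cm (f : G →* G') (a h : G) : (cm a h).map f = cm (f a) (f h) := by
  rw [cm, cm, MonoidHom.map_closure]
  congr 1
  ext y
  constructor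
  · rintro ⟨_, ⟨i, rfl⟩, rfl⟩
    exact ⟨i, by simp⟩
  · rintro ⟨i, rfl⟩
    exact ⟨_, ⟨i, rfl⟩, by simp⟩

theorem map_dd (f : G →* G') (a : G) (H : Subgroup G) : (dd a H).map f = dd (f a) (H.map f) := by
  rw [dd, dd, MonoidHom.map_closure]
  congr 1
  ext y
  constructor
  · rintro ⟨_, ⟨h, hh, i, rfl⟩, rfl⟩
    exact ⟨f h, Subgroup.mem_map_of_mem f hh, i, by simp⟩
  · rintro ⟨_, ⟨h, hh, rfl⟩, i, rfl⟩
    exact ⟨_, ⟨h, hh, i, rfl⟩, by simp⟩

theorem map_centralizer_self_le (f : G →* G') (a : G) :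
    (Subgroup.centralizer ({a} : Set G)).map f ≤ Subgroup.centralizer {f a} := by
  rintro _ ⟨x, hx, rfl⟩
  rw [mem_centralizer_self_iff, ← map_mul, ← map_mul, mem_centralizer_self_iff.mp hx]

theorem map_kk_le (f : G →* G') (a : G) (H : Subgroup G) :
    (kk a H).map f ≤ kk (f a) (H.map f) := by
  rw [kk, Subgroup.map_iSup]
  refine iSup_le fun h => (Subgroup.map_inf_le _ _ f).trans ?_
  rw [map_cm]
  exact (inf_le_inf_left _ (map_centralizer_self_le f a)).trans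
    (cm_inf_le_kk (Subgroup.mem_map_of_mem f h.2))

/-- Coprime action: the fixed points of the image lift. -/
theorem kk_map_le [Finite G] {a : G} {p : ℕ} (hap : a ^ p = 1) {H : Subgroup G}
    (hN : a ∈ Subgroup.normalizer (H : Set G)) (hcop : (Nat.card H).Coprime p) (f : G →* G') :
    kk (f a) (H.map f) ≤ (kk a H).map f := by
  refine iSup_le ?_
  rintro ⟨_, h, hh, rfl⟩
  have hle : cm a h ≤ H := cm_le hN hh
  have h2 := CfsgLib.Coprime.map_inf_centralizer (A := Subgroup.zpowers a) (K := cm a h)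
    (Subgroup.zpowers_le.mpr (cm_invariant a h))
    (coprime_zpowers hap (hcop.coprime_dvd_left (Subgroup.card_dvd_of_le hle)))
    (Or.inl (isSolvable_zpowers a)) f
  rw [MonoidHom.map_zpowers, centralizer_zpowers, centralizer_zpowers, map_cm] at h2
  rw [← h2]
  exact Subgroup.map_mono (cm_inf_le_kk hh)

end CfsgLib.FixedGen
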