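import Mathlib
import Cfsg.Agent.Lib.FixedGen.Basic

/-!
A minimal counterexample to the generation of `C_{[H,a]}(a)` by the `C_{[h,a]}(a)`, and the tools
shared by the two cases of the proof.
-/

set_option autoImplicit false

open scoped commutatorElement

namespace CfsgLib.FixedGen

variable {G : Type*} [Group G]

/-- A minimal counterexample with a minimal normal invariant subgroup `V`. -/
structure Setting (p r : ℕ) (a : G) (H V : Subgroup G) : Prop where
  hp : p ≠ 2
  hap : a ^ p = 1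
  hN : a ∈ Subgroup.normalizer (H : Set G)
  hcop : (Nat.card H).Coprime p
  hsol : Group.IsSolvable H
  hD : dd a H = H
  hsub : ∀ M : Subgroup G, M < H → a ∈ Subgroup.normalizer (M : Set G) →
    dd a M ⊓ Subgroup.centralizer {a} ≤ kk a H
  hquot : ∀ U : Subgroup G, U ≤ H → U ≠ ⊥ → H ≤ Subgroup.normalizer (U : Set G) →
    a ∈ Subgroup.normalizer (U : Set G) → ∀ x ∈ H, a * x = x * a → x ∈ kk a H ⊔ U
  hne : ∃ x ∈ H, a * x = x * a ∧ x ∉ kk a H
  hVH : V ≤ H
  hV : V ≠ ⊥
  hVn : H ≤ Subgroup.normalizer (V : Set G)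
  hVa : a ∈ Subgroup.normalizer (V : Set G)
  hVexp : ∀ v ∈ V, v ^ r = 1
  hVc : ∀ v ∈ V, ∀ w ∈ V, v * w = w * v
  hVmin : ∀ U : Subgroup G, U ≤ V → H ≤ Subgroup.normalizer (U : Set G) →
    a ∈ Subgroup.normalizer (U : Set G) → U = ⊥ ∨ U = V

/-- Elements of a join as products. -/
theorem exists_mul_of_mem_sup {A B : Subgroup G} (hA : A ≤ Subgroup.normalizer (B : Set G)) {x : G}
    (hx : x ∈ A ⊔ B) : ∃ y ∈ A, ∃ z ∈ B, x = y * z := by
  rw [← SetLike.mem_coe, Subgroup.coe_mul_of_left_le_normalizer_right A B hA, Set.mem_mul] at hx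
  obtain ⟨y, hy, z, hz, rfl⟩ := hx
  exact ⟨y, hy, z, hz, rfl⟩

theorem Setting.exists_fixed_not_mem {p r : ℕ} {a : G} {H V : Subgroup G} (S : Setting p r a H V)
    {U : Subgroup G} (hUH : U ≤ H) (hU : U ≠ ⊥) (hUn : H ≤ Subgroup.normalizer (U : Set G))
    (hUa : a ∈ Subgroup.normalizer (U : Set G)) : ∃ w ∈ U, a * w = w * a ∧ w ∉ kk a H := by
  obtain ⟨x, hx, hxa, hxk⟩ := S.hne
  obtain ⟨k, hk, u, hu, rfl⟩ := exists_mul_of_mem_sup ((kk_le S.hN).trans hUn)
    (S.hquot U hUH hU hUn hUa x hx hxa)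
  refine ⟨u, hu, ?_, fun h => hxk (mul_mem hk h)⟩
  have hka := mem_centralizer_self_iff.mp (kk_le_centralizer a H hk)
  have h1 : Commute a u := by
    have h2 : Commute a (k⁻¹ * (k * u)) :=
      ((show Commute a k from hka).inv_right).mul_right hxa
    rwa [inv_mul_cancel_left] at h2
  exact h1.eq

/-- In an abelian group a coprime `a` fixes no nontrivial element of `[M, a]`. -/
theorem dd_inf_centralizer_of_comm [Finite G] {a : G} {p : ℕ} (hap : a ^ p = 1) {M : Subgroup G}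
    (hN : a ∈ Subgroup.normalizer (M : Set G)) (hcop : (Nat.card M).Coprime p)
    (hc : ∀ x ∈ M, ∀ y ∈ M, x * y = y * x) : dd a M ⊓ Subgroup.centralizer {a} = ⊥ := by
  haveI : IsMulCommutative M := ⟨⟨fun x y => Subtype.ext (hc x x.2 y y.2)⟩⟩
  have h := CfsgLib.Coprime.centralizer_inf_commutator_eq_bot (A := Subgroup.zpowers a) (V := M)
    (Subgroup.zpowers_le.mpr hN) (coprime_zpowers hap hcop)
  rw [centralizer_zpowers] at h
  have hle : dd a M ≤ ⁅M, Subgroup.zpowers a⁆ := by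
    refine (Subgroup.closure_le _).mpr ?_
    rintro _ ⟨m, hm, i, rfl⟩
    have := Subgroup.commutator_mem_commutator (inv_mem hm)
      (pow_mem (Subgroup.mem_zpowers a) i)
    rwa [commutatorElement_def, inv_inv, show m⁻¹ * a ^ i * m * (a ^ i)⁻¹
      = m⁻¹ * (a ^ i * m * (a ^ i)⁻¹) by group] at this
  rw [eq_bot_iff, ← h]
  intro x hx
  exact ⟨⟨dd_le hN hx.1, hx.2⟩, hle hx.1⟩

/-- Conjugation by `a ^ i` on `H`. -/
def conjHom {a : G} {H : Subgroup G} (hN : a ∈ Subgroup.normalizer (H : Set G)) (i : ℕ) :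
    H →* H where
  toFun h := ⟨a ^ i * h * (a ^ i)⁻¹, conj_pow_mem hN h.2 i⟩
  map_one' := Subtype.ext (by simp)
  map_mul' x y := Subtype.ext (by simp [mul_assoc])

/-- If `H = [H, a]` then coprime fixed points lie in the derived subgroup. -/
theorem fixed_mem_commutator [Finite G] {a : G} {p : ℕ} (hap : a ^ p = 1) {H : Subgroup G}
    (hN : a ∈ Subgroup.normalizer (H : Set G)) (hcop : (Nat.card H).Coprime p) (hD : dd a H = H)
    {x : G} (hx : x ∈ H) (hxa : a * x = x * a) : x ∈ ⁅H, H⁆ := by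
  classical
  let φ : ℕ → H →* Abelianization H := fun i => Abelianization.of.comp (conjHom hN i)
  let τ : H →* Abelianization H := ∏ i ∈ Finset.range p, φ i
  have hτ0 : ∀ h, τ h = ∏ i ∈ Finset.range p, φ i h := fun h =>
    MonoidHom.finsetProd_apply φ (Finset.range p) h
  have hshift : ∀ h, τ (conjHom hN 1 h) = τ h := by
    intro h
    have e : ∀ i, φ i (conjHom hN 1 h) = φ (i + 1) h := by
      intro i
      refine congrArg Abelianization.of (Subtype.ext ?_)
      show a ^ i * (a ^ 1 * h * (a ^ 1)⁻¹) * (a ^ i)⁻¹ = a ^ (i + 1) * h * (a ^ (i + 1))⁻¹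
      rw [pow_one, pow_succ]; group
    have hp0 : φ p h = φ 0 h := congrArg Abelianization.of (Subtype.ext (by
      show a ^ p * h * (a ^ p)⁻¹ = a ^ 0 * h * (a ^ 0)⁻¹
      rw [hap, pow_zero]))
    rw [hτ0, hτ0, Finset.prod_congr rfl fun i _ => e i]
    have h1 := Finset.prod_range_succ' (fun i => φ i h) p
    rw [Finset.prod_range_succ (fun i => φ i h) p, hp0] at h1
    exact (mul_right_cancel h1).symm
  have hall : ∀ (i : ℕ) (h : H), τ (conjHom hN i h) = τ h := by
    intro i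
    induction i with
    | zero => intro h; exact congrArg τ (Subtype.ext (by simp [conjHom]))
    | succ n ih =>
      intro h
      have e : conjHom hN (n + 1) h = conjHom hN 1 (conjHom hN n h) := Subtype.ext (by
        show a ^ (n + 1) * h * (a ^ (n + 1))⁻¹ = a ^ 1 * (a ^ n * h * (a ^ n)⁻¹) * (a ^ 1)⁻¹
        rw [pow_succ', pow_one]; group)
      rw [e, hshift, ih]
  have hker : H ≤ τ.ker.map H.subtype := by
    conv_lhs => rw [← hD]
    refine (Subgroup.closure_le _).mpr ?_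
    rintro _ ⟨h, hh, i, rfl⟩
    refine ⟨(⟨h, hh⟩ : H)⁻¹ * conjHom hN i ⟨h, hh⟩, ?_, rfl⟩
    rw [SetLike.mem_coe, MonoidHom.mem_ker, map_mul, map_inv, hall, inv_mul_cancel]
  obtain ⟨y, hy, hyx⟩ := hker hx
  have hfix : ∀ i, φ i y = Abelianization.of y := fun i => congrArg Abelianization.of (Subtype.ext (by
    show a ^ i * (y : G) * (a ^ i)⁻¹ = y
    rw [show (y : G) = x from hyx]
    exact mul_inv_eq_iff_eq_mul.mpr ((show Commute a x from hxa).pow_left i).eq))
  have h1 : Abelianization.of y ^ p = 1 := by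
    rw [SetLike.mem_coe, MonoidHom.mem_ker, hτ0, Finset.prod_congr rfl fun i _ => hfix i,
      Finset.prod_const, Finset.card_range] at hy
    exact hy
  have h2 : orderOf (Abelianization.of y) = 1 := Nat.eq_one_of_dvd_coprimes hcop
    ((orderOf_map_dvd _ y).trans (orderOf_dvd_natCard y)) (orderOf_dvd_of_pow_eq_one h1)
  have h3 : y ∈ commutator H := by
    rw [← Abelianization.ker_of, MonoidHom.mem_ker]
    exact orderOf_eq_one_iff.mp h2
  have h4 : x ∈ (commutator H).map H.subtype := ⟨y, h3, hyx⟩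
  rwa [commutator_def, Subgroup.map_commutator, ← MonoidHom.range_eq_map,
    Subgroup.range_subtype] at h4

/-- A subgroup of an elementary abelian group has a complement. -/
theorem exists_disjoint_complement [Finite G] {r : ℕ} [Fact r.Prime] {U V : Subgroup G}
    (hUV : U ≤ V) (hexp : ∀ v ∈ V, v ^ r = 1) (hc : ∀ v ∈ V, ∀ w ∈ V, v * w = w * v) :
    ∃ W : Subgroup G, W ≤ V ∧ U ⊓ W = ⊥ ∧ U ⊔ W = V := by
  haveI : Finite (Subgroup G) := Finite.of_injective (fun K => (K : Set G)) SetLike.coe_injective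
  obtain ⟨W, hW, hmax⟩ := (Set.toFinite {W : Subgroup G | W ≤ V ∧ U ⊓ W = ⊥}).exists_maximal
    ⟨⊥, bot_le, inf_bot_eq U⟩
  obtain ⟨hWV, hUW⟩ := hW
  refine ⟨W, hWV, hUW, le_antisymm (sup_le hUV hWV) fun v hv => ?_⟩
  by_contra hnot
  have hle : W ⊔ Subgroup.zpowers v ≤ V := sup_le hWV (Subgroup.zpowers_le.mpr hv)
  have hdis : U ⊓ (W ⊔ Subgroup.zpowers v) = ⊥ := by
    rw [eq_bot_iff]
    rintro x ⟨hxU, hxS⟩
    have hWn : W ≤ Subgroup.normalizer (Subgroup.zpowers v : Set G) := by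
      intro w hw
      refine Subgroup.mem_normalizer_iff.mpr fun z => ?_
      constructor
      · intro hz
        rw [hc w (hWV hw) z ((Subgroup.zpowers_le.mpr hv) hz)]
        simpa using hz
      · intro hz
        have hzV : z ∈ V := by
          have := mul_mem (mul_mem (inv_mem (hWV hw)) ((Subgroup.zpowers_le.mpr hv) hz)) (hWV hw)
          simpa [mul_assoc] using this
        rw [hc w (hWV hw) z hzV] at hz
        simpa using hz
    obtain ⟨w, hw, z, hz, rfl⟩ := exists_mul_of_mem_sup hWn hxS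
    obtain ⟨n, rfl⟩ := Subgroup.mem_zpowers_iff.mp hz
    by_cases hn : (r : ℤ) ∣ n
    · obtain ⟨m, rfl⟩ := hn
      have hz1 : v ^ ((r : ℤ) * m) = 1 := by rw [zpow_mul, zpow_natCast, hexp v hv, one_zpow]
      rw [hz1, mul_one] at hxU ⊢
      exact hUW.le ⟨hxU, hw⟩
    · exfalso
      have hmem : v ^ n ∈ U ⊔ W := by
        have := mul_mem (Subgroup.mem_sup_right (S := U) (inv_mem hw)) (Subgroup.mem_sup_left hxU)
        rwa [inv_mul_cancel_left] at this
      have hcop : IsCoprime n (r : ℤ) :=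
        ((Nat.prime_iff_prime_int.mp (Fact.out : r.Prime)).coprime_iff_not_dvd.mpr hn).symm
      obtain ⟨s, t, hst⟩ := hcop
      have hv1 : v = (v ^ n) ^ s * (v ^ (r : ℤ)) ^ t := by
        rw [← zpow_mul, ← zpow_mul, ← zpow_add, mul_comm n s, mul_comm (r : ℤ) t, hst, zpow_one]
      rw [zpow_natCast, hexp v hv, one_zpow, mul_one] at hv1
      exact hnot (hv1 ▸ zpow_mem hmem s)
  exact hnot (Subgroup.mem_sup_right
    (hmax ⟨hle, hdis⟩ le_sup_left (Subgroup.mem_sup_right (Subgroup.mem_zpowers v))))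

end CfsgLib.FixedGen
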