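import Mathlib
import Cfsg.Agent.Lib.FixedGen.Setting
import Cfsg.Agent.Lib.Critical.Basic
import Cfsg.Agent.Lib.HSub.Fusion
import Cfsg.Agent.Lib.HSub.Small

/-!
The case of a central minimal normal subgroup in the generation of fixed points: it reduces to a
nilpotent `H` of class two, where the commutator form is killed by `a ≠ a⁻¹`.
-/

set_option autoImplicit false

open scoped commutatorElement

namespace CfsgLib.FixedGen

variable {G : Type*} [Group G] [Finite G] {p r : ℕ} [Fact p.Prime] [Fact r.Prime]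
variable {a : G} {H V : Subgroup G}

omit [Fact p.Prime] [Fact r.Prime] in
/-- Central elements of a minimal counterexample are fixed. -/
theorem center_fixed (S : Setting p r a H V) {z : G} (hz : z ∈ H)
    (hzc : ∀ h ∈ H, h * z = z * h) : a * z = z * a := by
  set Z : Subgroup G := H ⊓ Subgroup.centralizer (H : Set G) with hZdef
  have hZa : a ∈ Subgroup.normalizer (Z : Set G) :=
    Subgroup.zpowers_le.mp (CfsgLib.Coprime.le_normalizer_inf_of_le
      (Subgroup.zpowers_le.mpr S.hN)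
      (CfsgLib.Coprime.le_normalizer_centralizer (Subgroup.zpowers_le.mpr S.hN)))
  have hUH : dd a Z ≤ H := (dd_le hZa).trans inf_le_left
  have hUn : H ≤ Subgroup.normalizer (dd a Z : Set G) := by
    intro h hh
    refine mem_normalizer_of_conj_le fun x hx => ?_
    rw [show h * x * h⁻¹ = x by rw [(dd_le hZa hx).2 h hh]; group]
    exact hx
  have hbot : dd a Z = ⊥ := by
    by_contra hne
    obtain ⟨w, hw, hwa, hwk⟩ := S.exists_fixed_not_mem hUH hne hUn (dd_invariant hZa)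
    have h0 := dd_inf_centralizer_of_comm S.hap hZa
      (S.hcop.coprime_dvd_left (Subgroup.card_dvd_of_le inf_le_left))
      (fun x hx y hy => (hy.2 x hx.1))
    have h1 : w ∈ (⊥ : Subgroup G) := h0 ▸ ⟨hw, mem_centralizer_self_iff.mpr hwa⟩
    exact hwk (by rw [Subgroup.mem_bot.mp h1]; exact one_mem _)
  have h1 : z⁻¹ * (a * z * a⁻¹) ∈ dd a Z := by
    simpa using gen_mem_dd (a := a) (H := Z) ⟨hz, fun h hh => hzc h hh⟩ 1
  rw [hbot, Subgroup.mem_bot, inv_mul_eq_one] at h1
  exact commute_of_conj_eq h1.symm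

omit [Fact p.Prime] in
/-- In the central case `V` is central, fixed and meets `kk` trivially. -/
theorem central_facts (S : Setting p r a H V) (hVc : ∀ v ∈ V, ∀ h ∈ H, h * v = v * h) :
    (∀ v ∈ V, a * v = v * a) ∧ (∀ v ∈ V, v ∈ kk a H → v = 1) ∧
      (∀ z ∈ H, (∀ h ∈ H, h * z = z * h) → z ∈ V) := by
  have hfix : ∀ v ∈ V, a * v = v * a := fun v hv =>
    center_fixed S (S.hVH hv) (hVc v hv)
  have hcyc : ∀ w ∈ H, (∀ h ∈ H, h * w = w * h) → a * w = w * a → w ∈ kk a H → w = 1 := by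
    intro w hw hwc hwa hwk
    by_contra hne
    obtain ⟨u, hu, -, huk⟩ := S.exists_fixed_not_mem (U := Subgroup.zpowers w)
      (Subgroup.zpowers_le.mpr hw) (by simpa using hne)
      (fun h hh => mem_normalizer_of_conj_le fun x hx => by
        obtain ⟨n, rfl⟩ := Subgroup.mem_zpowers_iff.mp hx
        rw [((show Commute h w from hwc h hh).zpow_right n).eq]
        simp)
      (mem_normalizer_of_conj_le fun x hx => by
        obtain ⟨n, rfl⟩ := Subgroup.mem_zpowers_iff.mp hx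
        rw [((show Commute a w from hwa).zpow_right n).eq]
        simp)
    exact huk (Subgroup.zpowers_le.mpr hwk hu)
  refine ⟨hfix, fun v hv hvk => hcyc v (S.hVH hv) (hVc v hv) (hfix v hv) hvk, fun z hz hzc => ?_⟩
  obtain ⟨k, hk, v, hv, rfl⟩ := exists_mul_of_mem_sup ((kk_le S.hN).trans S.hVn)
    (S.hquot V S.hVH S.hV S.hVn S.hVa z hz (center_fixed S hz hzc))
  have hkc : ∀ h ∈ H, h * k = k * h := by
    intro h hh
    have h1 : Commute h (k * v * v⁻¹) :=
      (show Commute h (k * v) from hzc h hh).mul_right (show Commute h v from hVc v hv h hh).inv_right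
    rw [mul_inv_cancel_right] at h1
    exact h1.eq
  rw [hcyc k (kk_le S.hN hk) hkc (mem_centralizer_self_iff.mp (kk_le_centralizer a H hk)) hk,
    one_mul]
  exact hv

omit [Fact p.Prime] in
/-- A commutator of two fixed elements lies in `kk`. -/
theorem fixed_commutator_mem_kk (S : Setting p r a H V) (hVc : ∀ v ∈ V, ∀ h ∈ H, h * v = v * h)
    {x y : G} (hx : x ∈ H) (hxa : a * x = x * a) (hy : y ∈ H) (hya : a * y = y * a) :
    ⁅x, y⁆ ∈ kk a H := by
  obtain ⟨k, hk, v, hv, rfl⟩ := exists_mul_of_mem_sup ((kk_le S.hN).trans S.hVn)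
    (S.hquot V S.hVH S.hV S.hVn S.hVa x hx hxa)
  have e : ⁅k * v, y⁆ = k * (y * k⁻¹ * y⁻¹) := by
    rw [commutatorElement_def]
    calc k * v * y * (k * v)⁻¹ * y⁻¹ = k * (v * y) * v⁻¹ * k⁻¹ * y⁻¹ := by group
      _ = k * (y * v) * v⁻¹ * k⁻¹ * y⁻¹ := by rw [hVc v hv y hy]
      _ = k * (y * k⁻¹ * y⁻¹) := by group
  rw [e]
  exact mul_mem hk ((Subgroup.mem_normalizer_iff.mp
    (fixed_le_normalizer_kk a H ⟨hy, mem_centralizer_self_iff.mpr hya⟩) _).mp (inv_mem hk))

/-- In the central case `H` is an `r`-group. -/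
theorem central_isPGroup (S : Setting p r a H V) (hVc : ∀ v ∈ V, ∀ h ∈ H, h * v = v * h) :
    IsPGroup r H := by
  obtain ⟨hfix, hVk, -⟩ := central_facts S hVc
  have hVr : IsPGroup r V := fun v => ⟨1, Subtype.ext (by simpa using S.hVexp v v.2)⟩
  obtain ⟨P, hVP, hPa⟩ := CfsgLib.Coprime.exists_invariant_sylow_ge (A := Subgroup.zpowers a) (K := H)
    (Subgroup.zpowers_le.mpr S.hN) (coprime_zpowers S.hap S.hcop) (Or.inl (isSolvable_zpowers a))
    S.hVH hVr (Subgroup.zpowers_le.mpr S.hVa)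
  set T : Subgroup G := (P : Subgroup H).map H.subtype with hT
  have hTH : T ≤ H := Subgroup.map_subtype_le _
  by_contra hnp
  have hlt : T < H := by
    refine lt_of_le_of_ne hTH fun e => hnp ?_
    have hTr : IsPGroup r T := P.2.map _
    rwa [e] at hTr
  have hTa : a ∈ Subgroup.normalizer (T : Set G) := Subgroup.zpowers_le.mp hPa
  have hTc : (Nat.card T).Coprime p := S.hcop.coprime_dvd_left (Subgroup.card_dvd_of_le hTH)
  have key : ∀ v ∈ V, v ∈ ⁅T, T⁆ := by
    intro v hv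
    let ϕ : ↥(P : Subgroup H) →* Abelianization ↥(P : Subgroup H) := Abelianization.of
    set v' : H := ⟨v, S.hVH hv⟩ with hv'
    have hcent : ∀ h : H, Commute h v' := fun h => Subtype.ext (hVc v hv h h.2)
    have hkey : ∀ (k : ℕ) (g₀ : H), g₀⁻¹ * v' ^ k * g₀ ∈ (P : Subgroup H) →
        g₀⁻¹ * v' ^ k * g₀ = v' ^ k := by
      intro k g₀ _
      rw [mul_assoc, ← ((hcent g₀).pow_right k).eq, inv_mul_cancel_left]
    have htr := MonoidHom.transfer_eq_pow (ϕ := ϕ) v' hkey
    obtain ⟨y, hy, hyv⟩ : v ∈ (commutator H).map H.subtype := by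
      rw [commutator_def, Subgroup.map_commutator, ← MonoidHom.range_eq_map,
        Subgroup.range_subtype]
      exact fixed_mem_commutator S.hap S.hN S.hcop S.hD (S.hVH hv) (hfix v hv)
    have hy' : y = v' := Subtype.ext hyv
    subst hy'
    have h1 : MonoidHom.transfer ϕ v' = 1 :=
      MonoidHom.mem_ker.mp (Abelianization.commutator_subset_ker _ hy)
    rw [htr] at h1
    have h2 : (⟨v' ^ (P : Subgroup H).index, MonoidHom.transfer_eq_pow_aux v' hkey⟩ :
        ↥(P : Subgroup H)) ∈ commutator ↥(P : Subgroup H) := by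
      rw [← Abelianization.ker_of, MonoidHom.mem_ker]
      exact h1
    have h3 : v ^ (P : Subgroup H).index ∈ ⁅T, T⁆ := by
      have h4 := Subgroup.mem_map_of_mem (H.subtype.comp (P : Subgroup H).subtype) h2
      rw [commutator_def, Subgroup.map_commutator, ← MonoidHom.range_eq_map,
        MonoidHom.range_comp, Subgroup.range_subtype] at h4
      exact h4
    have hnd : ¬ r ∣ (P : Subgroup H).index := P.not_dvd_index
    have hcp : (r : ℕ).Coprime (P : Subgroup H).index := (Fact.out : r.Prime).coprime_iff_not_dvd.mpr hnd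
    have h5 : v ^ ((P : Subgroup H).index.gcd r) ∈ ⁅T, T⁆ := by
      obtain ⟨s, hs⟩ : ∃ s : ℤ × ℤ, (((P : Subgroup H).index.gcd r : ℕ) : ℤ)
          = ((P : Subgroup H).index : ℤ) * s.1 + (r : ℤ) * s.2 :=
        ⟨(_, _), Nat.gcd_eq_gcd_ab _ _⟩
      rw [← zpow_natCast, hs, zpow_add, zpow_mul, zpow_mul, zpow_natCast, zpow_natCast,
        S.hVexp v hv, one_zpow, mul_one]
      exact zpow_mem h3 _
    rwa [hcp.symm.gcd_eq_one, pow_one] at h5
  have hR : ∀ x ∈ ⁅T, T⁆, ∃ d ∈ dd a T, ∃ k ∈ kk a H, x = d * k := by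
    have hle : ⁅T, T⁆ ≤ dd a T ⊔ (kk a H ⊓ T) := by
      refine Subgroup.commutator_le.mpr fun x hx y hy => ?_
      obtain ⟨c, hc, hca, d, hd, rfl⟩ := exists_fixed_mul S.hap hTa hTc hx
      obtain ⟨c', hc', hca', d', hd', rfl⟩ := exists_fixed_mul S.hap hTa hTc hy
      haveI : ((dd a T).subgroupOf T).Normal :=
        Subgroup.normal_subgroupOf_iff_le_normalizer (dd_le hTa) |>.mpr (le_normalizer_dd a T)
      set f := QuotientGroup.mk' ((dd a T).subgroupOf T)
      have hd1 : f ⟨d, dd_le hTa hd⟩ = 1 := (QuotientGroup.eq_one_iff _).mpr hd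
      have hd2 : f ⟨d', dd_le hTa hd'⟩ = 1 := (QuotientGroup.eq_one_iff _).mpr hd'
      have e : f ⁅(⟨c, hc⟩ * ⟨d, dd_le hTa hd⟩ : T), (⟨c', hc'⟩ * ⟨d', dd_le hTa hd'⟩ : T)⁆
          = f ⁅(⟨c, hc⟩ : T), (⟨c', hc'⟩ : T)⁆ := by
        rw [map_commutatorElement, map_commutatorElement, map_mul, map_mul, hd1, hd2, mul_one,
          mul_one]
      have e2 : ⁅c, c'⁆⁻¹ * ⁅c * d, c' * d'⁆ ∈ dd a T := by
        have h7 := QuotientGroup.eq.mp e.symm
        rw [Subgroup.mem_subgroupOf] at h7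
        exact h7
      have hk : ⁅c, c'⁆ ∈ kk a H ⊓ T :=
        ⟨fixed_commutator_mem_kk S hVc (hTH hc) hca (hTH hc') hca',
          show ⁅c, c'⁆ ∈ T from (⁅(⟨c, hc⟩ : T), (⟨c', hc'⟩ : T)⁆ : T).2⟩
      have := mul_mem (Subgroup.mem_sup_right (S := dd a T) hk)
        (Subgroup.mem_sup_left (T := kk a H ⊓ T) e2)
      rwa [mul_inv_cancel_left] at this
    intro x hx
    have hx' := hle hx
    rw [sup_comm] at hx'
    obtain ⟨k, hk, d, hd, rfl⟩ := exists_mul_of_mem_sup
      (inf_le_right.trans (le_normalizer_dd a T)) hx'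
    exact ⟨k * d * k⁻¹, (Subgroup.mem_normalizer_iff.mp (le_normalizer_dd a T hk.2) d).mp hd,
      k, hk.1, by group⟩
  obtain ⟨v, hv, hv1⟩ := (Subgroup.ne_bot_iff_exists_ne_one.mp S.hV).elim fun x hx => (⟨x, x.2, fun h => hx (Subtype.ext h)⟩ : ∃ v ∈ V, v ≠ 1)
  obtain ⟨d, hd, k, hk, hvdk⟩ := hR v (key v hv)
  have hdC : d ∈ Subgroup.centralizer ({a} : Set G) := by
    rw [show d = v * k⁻¹ by rw [hvdk]; group]
    exact mul_mem (mem_centralizer_self_iff.mpr (hfix v hv)) (inv_mem (kk_le_centralizer a H hk))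
  exact hv1 (hVk v hv (hvdk ▸ mul_mem (S.hsub T hlt hTa ⟨hd, hdC⟩) hk))

end CfsgLib.FixedGen
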