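import Mathlib
import Cfsg.Agent.Lib.FixedGen.Central

/-!
No minimal counterexample has a central minimal normal subgroup.
-/

set_option autoImplicit false

open scoped commutatorElement

namespace CfsgLib.FixedGen

variable {G : Type*} [Group G] [Finite G]

/-- The Frattini subgroup of a subgroup, inside the group. -/
noncomputable def frat (H : Subgroup G) : Subgroup G := (frattini H).map H.subtype

theorem frat_le (H : Subgroup G) : frat H ≤ H := Subgroup.map_subtype_le _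

theorem le_normalizer_frat (H : Subgroup G) :
    Subgroup.normalizer (H : Set G) ≤ Subgroup.normalizer (frat H : Set G) := by
  intro g hg
  refine mem_normalizer_of_conj_le fun x hx => ?_
  obtain ⟨y, hy, rfl⟩ := hx
  have h := (frattini_characteristic (G := H)).fixed (H.normalizerMonoidHom ⟨g, hg⟩)
  rw [← h] at hy
  exact ⟨_, hy, rfl⟩

theorem eq_of_sup_frat {H M : Subgroup G} (hM : M ≤ H) (h : M ⊔ frat H = H) : M = H := by
  have h1 : (M.subgroupOf H) ⊔ frattini H = ⊤ := by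
    apply Subgroup.map_injective H.subtype_injective
    rw [Subgroup.map_sup, Subgroup.map_subgroupOf_eq_of_le hM, ← MonoidHom.range_eq_map,
      Subgroup.range_subtype]
    exact h
  exact le_antisymm hM (Subgroup.subgroupOf_eq_top.mp (frattini_nongenerating h1))

omit [Finite G] in
theorem mem_of_mk_eq_one {K N : Subgroup G} [(N.subgroupOf K).Normal] {x : K}
    (h : QuotientGroup.mk' (N.subgroupOf K) x = 1) : (x : G) ∈ N :=
  Subgroup.mem_subgroupOf.mp ((QuotientGroup.eq_one_iff (N := N.subgroupOf K) x).mp h)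

omit [Finite G] in
theorem mem_of_mk_eq {K N : Subgroup G} [(N.subgroupOf K).Normal] {x y : K}
    (h : QuotientGroup.mk' (N.subgroupOf K) x = QuotientGroup.mk' (N.subgroupOf K) y) :
    (x : G)⁻¹ * y ∈ N :=
  Subgroup.mem_subgroupOf.mp ((QuotientGroup.eq (s := N.subgroupOf K)).mp h)

variable {p r : ℕ} [Fact p.Prime] [Fact r.Prime] {a : G} {H V : Subgroup G}

omit [Fact p.Prime] in
theorem commutator_mem_frat (hH : IsPGroup r H) {x y : G} (hx : x ∈ H) (hy : y ∈ H) :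
    ⁅x, y⁆ ∈ frat H :=
  ⟨⁅(⟨x, hx⟩ : H), ⟨y, hy⟩⁆, CfsgLib.HSub.commutator_le_frattini hH
    (Subgroup.commutator_mem_commutator (Subgroup.mem_top _) (Subgroup.mem_top _)), rfl⟩

omit [Fact p.Prime] in
/-- Invariant complements modulo the Frattini subgroup. -/
theorem exists_invariant_complement_mod_frat (hH : IsPGroup r H) (hap : a ^ p = 1)
    (hN : a ∈ Subgroup.normalizer (H : Set G)) (hcop : (Nat.card H).Coprime p) {N : Subgroup G}
    (hNH : N ≤ H) (hΦN : frat H ≤ N) (hNa : a ∈ Subgroup.normalizer (N : Set G)) :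
    ∃ M : Subgroup G, M ≤ H ∧ frat H ≤ M ∧ a ∈ Subgroup.normalizer (M : Set G) ∧
      N ⊔ M = H ∧ N ⊓ M = frat H := by
  set Φ := frat H with hΦ
  set NG := Subgroup.normalizer (Φ : Set G) with hNG
  have hHN : H ≤ NG := Subgroup.le_normalizer.trans (le_normalizer_frat H)
  have haN : a ∈ NG := le_normalizer_frat H hN
  haveI : (Φ.subgroupOf NG).Normal :=
    Subgroup.normal_subgroupOf_iff_le_normalizer Subgroup.le_normalizer |>.mpr le_rfl
  set f := QuotientGroup.mk' (Φ.subgroupOf NG) with hf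
  set Hb := (H.subgroupOf NG).map f with hHb
  set Nb := (N.subgroupOf NG).map f with hNb
  set Ab := (Subgroup.zpowers (⟨a, haN⟩ : NG)).map f with hAb
  have hexp : ∀ x ∈ Hb, x ^ r = 1 := by
    rintro _ ⟨x, hx, rfl⟩
    rw [← map_pow]
    refine (QuotientGroup.eq_one_iff _).mpr ?_
    exact CfsgLib.HSub.mem_map_frattini_of_pow hH hx
  have hcomm : ∀ x ∈ Hb, ∀ y ∈ Hb, x * y = y * x := by
    rintro _ ⟨x, hx, rfl⟩ _ ⟨y, hy, rfl⟩
    rw [← commutatorElement_eq_one_iff_mul_comm, ← map_commutatorElement]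
    exact (QuotientGroup.eq_one_iff _).mpr (commutator_mem_frat hH hx hy)
  haveI : IsMulCommutative Hb := ⟨⟨fun x y => Subtype.ext (hcomm x x.2 y y.2)⟩⟩
  have hNle : Nb ≤ Hb := Subgroup.map_mono (fun x hx => hNH hx)
  have hmapnorm : ∀ {K : Subgroup G}, a ∈ Subgroup.normalizer (K : Set G) →
      Ab ≤ Subgroup.normalizer ((K.subgroupOf NG).map f : Set (NG ⧸ Φ.subgroupOf NG)) := by
    intro K hK
    rw [hAb, MonoidHom.map_zpowers, Subgroup.zpowers_le]
    refine mem_normalizer_of_conj_le ?_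
    rintro _ ⟨x, hx, rfl⟩
    refine ⟨⟨a, haN⟩ * x * (⟨a, haN⟩ : NG)⁻¹, ?_, by simp⟩
    exact (Subgroup.mem_normalizer_iff.mp hK _).mp hx
  obtain ⟨W₀, hW₀, hUW₀, hsup₀⟩ := exists_disjoint_complement hNle hexp hcomm
  have hcard : (Nat.card Ab).Coprime (Nat.card Hb) := by
    refine (coprime_zpowers (p := p) (a := (⟨a, haN⟩ : NG)) (Subtype.ext (by simpa using hap))
      (H := H.subgroupOf NG) ?_).coprime_dvd_left (Subgroup.card_map_dvd _ _)
      |>.coprime_dvd_right (Subgroup.card_map_dvd _ _)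
    rwa [Nat.card_congr (Subgroup.subgroupOfEquivOfLe hHN).toEquiv]
  obtain ⟨W, hW, hWa, hUW, hsup⟩ := CfsgLib.Coprime.exists_invariant_complement (hmapnorm hN) hcard
    hNle (hmapnorm hNa) hW₀ hUW₀ hsup₀
  refine ⟨(W.comap f).map NG.subtype, ?_, ?_, ?_, ?_, ?_⟩
  · rintro _ ⟨x, hx, rfl⟩
    obtain ⟨y, hy, hyx⟩ := hW hx
    have h1 : (y : G)⁻¹ * (x : G) ∈ Φ := mem_of_mk_eq hyx
    have h2 : (y : G) * ((y : G)⁻¹ * (x : G)) ∈ H := mul_mem hy (frat_le H (show _ ∈ frat H from h1))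
    rwa [mul_inv_cancel_left] at h2
  · intro x hx
    refine ⟨⟨x, Subgroup.le_normalizer hx⟩, ?_, rfl⟩
    show f _ ∈ W
    rw [show f ⟨x, Subgroup.le_normalizer hx⟩ = 1 from (QuotientGroup.eq_one_iff _).mpr hx]
    exact one_mem _
  · refine mem_normalizer_of_conj_le ?_
    rintro _ ⟨x, hx, rfl⟩
    refine ⟨⟨a, haN⟩ * x * (⟨a, haN⟩ : NG)⁻¹, ?_, rfl⟩
    show f _ ∈ W
    rw [map_mul, map_mul, map_inv]
    exact (Subgroup.mem_normalizer_iff.mp
      (hWa (Subgroup.mem_map_of_mem f (Subgroup.mem_zpowers _))) _).mp hx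
  · refine le_antisymm (sup_le hNH ?_) fun x hx => ?_
    · rintro _ ⟨x, hx, rfl⟩
      obtain ⟨y, hy, hyx⟩ := hW hx
      have h1 : (y : G)⁻¹ * (x : G) ∈ frat H := mem_of_mk_eq hyx
      have h2 : (y : G) * ((y : G)⁻¹ * (x : G)) ∈ H := mul_mem hy (frat_le H h1)
      rwa [mul_inv_cancel_left] at h2
    · have h1 : f ⟨x, hHN hx⟩ ∈ Nb ⊔ W := hsup.symm ▸ Subgroup.mem_map_of_mem f hx
      haveI : IsMulCommutative Hb := inferInstance
      obtain ⟨n, hn, w, hw, he⟩ := exists_mul_of_mem_sup (fun n hn =>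
        mem_normalizer_of_conj_le fun z hz => by
          rw [hcomm n (hNle hn) z (hW hz)]; simpa using hz) h1
      obtain ⟨n', hn', rfl⟩ := hn
      have h2 : n'⁻¹ * ⟨x, hHN hx⟩ ∈ W.comap f := by
        show f _ ∈ W
        rw [map_mul, map_inv, he, inv_mul_cancel_left]
        exact hw
      have := mul_mem (Subgroup.mem_sup_left (T := (W.comap f).map NG.subtype) (hn' : (n' : G) ∈ N))
        (Subgroup.mem_sup_right (S := N) (Subgroup.mem_map_of_mem NG.subtype h2))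
      simpa using this
  · refine le_antisymm ?_ (le_inf hΦN ?_)
    · rintro _ ⟨hxN, x, hx, rfl⟩
      have h1 : f x ∈ Nb ⊓ W := ⟨Subgroup.mem_map_of_mem f hxN, hx⟩
      rw [hUW, Subgroup.mem_bot] at h1
      exact mem_of_mk_eq_one h1
    · intro x hx
      refine ⟨⟨x, Subgroup.le_normalizer hx⟩, ?_, rfl⟩
      show f _ ∈ W
      rw [show f ⟨x, Subgroup.le_normalizer hx⟩ = 1 from (QuotientGroup.eq_one_iff _).mpr hx]
      exact one_mem _

/-- The class two end. -/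
theorem class_two_false (S : Setting p r a H V) (hVc : ∀ v ∈ V, ∀ h ∈ H, h * v = v * h)
    (hcl : ∀ x ∈ H, ∀ y ∈ H, ⁅x, y⁆ ∈ V) : False := by
  classical
  obtain ⟨hfix, hVk, hZ⟩ := central_facts S hVc
  have hfx : ∀ x ∈ H, a * x = x * a → x ∈ V := fun x hx hxa => by
    have h1 := fixed_mem_commutator S.hap S.hN S.hcop S.hD hx hxa
    exact (Subgroup.commutator_le.mpr hcl) h1
  have hright : ∀ x ∈ H, ∀ y ∈ H, ∀ z ∈ H, ⁅x, y * z⁆ = ⁅x, y⁆ * ⁅x, z⁆ := by
    intro x hx y hy z hz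
    calc ⁅x, y * z⁆ = ⁅x, y⁆ * (y * ⁅x, z⁆ * y⁻¹) := by simp only [commutatorElement_def]; group
      _ = ⁅x, y⁆ * ⁅x, z⁆ := by rw [hVc _ (hcl x hx z hz) y hy, mul_inv_cancel_right]
  have hleft : ∀ x ∈ H, ∀ y ∈ H, ∀ z ∈ H, ⁅x * y, z⁆ = ⁅x, z⁆ * ⁅y, z⁆ := by
    intro x hx y hy z hz
    calc ⁅x * y, z⁆ = (x * ⁅y, z⁆ * x⁻¹) * ⁅x, z⁆ := by simp only [commutatorElement_def]; group
      _ = ⁅y, z⁆ * ⁅x, z⁆ := by rw [hVc _ (hcl y hy z hz) x hx, mul_inv_cancel_right]
      _ = ⁅x, z⁆ * ⁅y, z⁆ := S.hVc _ (hcl y hy z hz) _ (hcl x hx z hz)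
  have hcj : ∀ x ∈ H, a * x * a⁻¹ ∈ H := fun x hx => (Subgroup.mem_normalizer_iff.mp S.hN x).mp hx
  have hcj' : ∀ x ∈ H, a⁻¹ * x * a ∈ H := fun x hx => by
    simpa using (Subgroup.mem_normalizer_iff.mp (inv_mem S.hN) x).mp hx
  -- every `w` commutes with its conjugate
  have hiso : ∀ g ∈ H, ⁅g⁻¹ * (a * g * a⁻¹), a * (g⁻¹ * (a * g * a⁻¹)) * a⁻¹⁆ = 1 := by
    intro g hg
    set w := g⁻¹ * (a * g * a⁻¹) with hw
    have hwm : w ∈ cm a g := gen_one_mem_cm a g
    have hwm' : a * w * a⁻¹ ∈ cm a g := (Subgroup.mem_normalizer_iff.mp (cm_invariant a g) w).mp hwm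
    have hwH := cm_le S.hN hg hwm
    have hcV := hcl w hwH _ (hcj w hwH)
    refine hVk _ hcV (cm_inf_le_kk hg ⟨?_, mem_centralizer_self_iff.mpr (hfix _ hcV)⟩)
    show ⁅w, a * w * a⁻¹⁆ ∈ cm a g
    exact (⁅(⟨w, hwm⟩ : cm a g), (⟨_, hwm'⟩ : cm a g)⁆ : cm a g).2
  -- the twisted map is surjective modulo `V`
  have hsurj : ∀ w ∈ H, ∃ g ∈ H, ∃ v ∈ V, w = g⁻¹ * (a * g * a⁻¹) * v := by
    haveI : (V.subgroupOf H).Normal :=
      Subgroup.normal_subgroupOf_iff_le_normalizer S.hVH |>.mpr S.hVn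
    have hwd : ∀ g g' : H, g⁻¹ * g' ∈ V.subgroupOf H →
        (⟨(g : G)⁻¹ * (a * g * a⁻¹), mul_mem (inv_mem g.2) (hcj g g.2)⟩ : H)⁻¹ *
          ⟨(g' : G)⁻¹ * (a * g' * a⁻¹), mul_mem (inv_mem g'.2) (hcj g' g'.2)⟩ ∈ V.subgroupOf H := by
      intro g g' h
      obtain ⟨v, hv, he⟩ : ∃ v ∈ V, (g' : G) = g * v := ⟨(g : G)⁻¹ * g', h, by group⟩
      show ((g : G)⁻¹ * (a * g * a⁻¹))⁻¹ * ((g' : G)⁻¹ * (a * g' * a⁻¹)) ∈ V
      rw [he]
      have h2 : (g : G) * v = v * g := hVc v hv g g.2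
      have h4 : a * v * a⁻¹ = v := conj_eq_of_commute (hfix v hv)
      have e : a * ((g : G) * v) * a⁻¹ = v * (a * g * a⁻¹) := by
        rw [h2]
        calc a * (v * g) * a⁻¹ = (a * v * a⁻¹) * (a * g * a⁻¹) := by group
          _ = v * (a * g * a⁻¹) := by rw [h4]
      rw [e, h2]
      convert one_mem V using 1
      group
    let φ : H ⧸ V.subgroupOf H → H ⧸ V.subgroupOf H :=
      Quotient.map' (fun g : H =>
        (⟨(g : G)⁻¹ * (a * g * a⁻¹), mul_mem (inv_mem g.2) (hcj g g.2)⟩ : H))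
        fun g g' h => QuotientGroup.leftRel_apply.mpr (hwd g g' (QuotientGroup.leftRel_apply.mp h))
    have hinj : Function.Injective φ := by
      intro X Y hXY
      induction X using QuotientGroup.induction_on with
      | _ g =>
      induction Y using QuotientGroup.induction_on with
      | _ g' =>
      have h : ((g : G)⁻¹ * (a * g * a⁻¹))⁻¹ * ((g' : G)⁻¹ * (a * g' * a⁻¹)) ∈ V :=
        Subgroup.mem_subgroupOf.mp ((QuotientGroup.eq (s := V.subgroupOf H)).mp hXY)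
      set v := ((g : G)⁻¹ * (a * g * a⁻¹))⁻¹ * ((g' : G)⁻¹ * (a * g' * a⁻¹)) with hv
      set u := (g' : G) * (g : G)⁻¹ with hu
      have huH : u ∈ H := mul_mem g'.2 (inv_mem g.2)
      have hcg : Commute (a * (g : G) * a⁻¹) v := hVc v h _ (hcj g g.2)
      have e : u⁻¹ * (a * u * a⁻¹) = v := by
        have e1 : a * (g' : G) * a⁻¹ = g' * (g : G)⁻¹ * (a * g * a⁻¹) * v := by rw [hv]; group
        calc u⁻¹ * (a * u * a⁻¹)
            = (g : G) * (g' : G)⁻¹ * ((a * g' * a⁻¹) * (a * g * a⁻¹)⁻¹) := by rw [hu]; group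
          _ = (g : G) * (g' : G)⁻¹ * (g' * (g : G)⁻¹ * (a * g * a⁻¹) * v * (a * g * a⁻¹)⁻¹) := by
              rw [e1]
          _ = (a * g * a⁻¹) * v * (a * g * a⁻¹)⁻¹ := by group
          _ = v := by rw [hcg.eq, mul_inv_cancel_right]
      obtain ⟨c, hc, hca, hcV⟩ := exists_fixed_coset S.hap S.hN S.hcop S.hVH S.hVa huH (by
        rw [e]; exact h)
      have huV : u ∈ V := by
        have := mul_mem (hfx c hc hca) (inv_mem hcV)
        simpa using this
      refine QuotientGroup.eq.mpr ?_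
      show (g : G)⁻¹ * g' ∈ V
      have e2 : (g : G)⁻¹ * g' = (g : G)⁻¹ * u * g := by rw [hu]; group
      rw [e2]
      simpa using (Subgroup.mem_normalizer_iff.mp (S.hVn (inv_mem g.2)) u).mp huV
    intro w hw
    obtain ⟨X, hX⟩ := Finite.injective_iff_surjective.mp hinj ((⟨w, hw⟩ : H) : H ⧸ V.subgroupOf H)
    induction X using QuotientGroup.induction_on with
    | _ g =>
    exact ⟨g, g.2, ((g : G)⁻¹ * (a * g * a⁻¹))⁻¹ * w, Subgroup.mem_subgroupOf.mp ((QuotientGroup.eq (s := V.subgroupOf H)).mp hX), by group⟩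
  have hB : ∀ w ∈ H, ⁅w, a * w * a⁻¹⁆ = 1 := by
    intro w hw
    obtain ⟨g, hg, v, hv, rfl⟩ := hsurj w hw
    set w' := g⁻¹ * (a * g * a⁻¹) with hw'
    have hw'H : w' ∈ H := cm_le S.hN hg (gen_one_mem_cm a g)
    have e : a * (w' * v) * a⁻¹ = (a * w' * a⁻¹) * v := by
      have h4 : a * v * a⁻¹ = v := conj_eq_of_commute (hfix v hv)
      calc a * (w' * v) * a⁻¹ = (a * w' * a⁻¹) * (a * v * a⁻¹) := by group
        _ = _ := by rw [h4]
    have h5 : ∀ x ∈ H, ⁅x, v⁆ = 1 := fun x hx =>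
      commutatorElement_eq_one_iff_mul_comm.mpr (hVc v hv x hx)
    have h6 : ∀ x ∈ H, ⁅v, x⁆ = 1 := fun x hx =>
      commutatorElement_eq_one_iff_mul_comm.mpr (hVc v hv x hx).symm
    rw [e, hleft _ hw'H _ (S.hVH hv) _ (mul_mem (hcj _ hw'H) (S.hVH hv)),
      hright _ hw'H _ (hcj _ hw'H) _ (S.hVH hv), hiso g hg, h5 _ hw'H,
      h6 _ (mul_mem (hcj _ hw'H) (S.hVH hv)), mul_one, mul_one]
  have hpol : ∀ u ∈ H, ∀ v ∈ H, ⁅u, a * v * a⁻¹⁆ = ⁅a * u * a⁻¹, v⁆ := by
    intro u hu v hv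
    have h := hB (u * v) (mul_mem hu hv)
    rw [show a * (u * v) * a⁻¹ = (a * u * a⁻¹) * (a * v * a⁻¹) by group,
      hleft _ hu _ hv _ (mul_mem (hcj _ hu) (hcj _ hv)),
      hright _ hu _ (hcj _ hu) _ (hcj _ hv), hright _ hv _ (hcj _ hu) _ (hcj _ hv),
      hB u hu, hB v hv, one_mul, mul_one] at h
    rw [mul_eq_one_iff_eq_inv.mp h, commutatorElement_inv]
  have hinv : ∀ u ∈ H, ∀ v ∈ H, ⁅a * u * a⁻¹, v⁆ = ⁅u, a⁻¹ * v * a⁆ := by
    intro u hu v hv
    have h4 := conj_eq_of_commute (hfix _ (hcl u hu _ (hcj' v hv)))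
    rw [← h4]
    simp only [commutatorElement_def]
    group
  have hsq : ∀ v ∈ H, a * v * a⁻¹ * (a⁻¹ * v * a)⁻¹ ∈ V := by
    intro v hv
    refine hZ _ (mul_mem (hcj v hv) (inv_mem (hcj' v hv))) fun u hu => ?_
    refine commutatorElement_eq_one_iff_mul_comm.mp ?_
    have h1 : ⁅u, a * v * a⁻¹⁆ = ⁅u, a⁻¹ * v * a⁆ := by rw [hpol u hu v hv, hinv u hu v hv]
    have h2 := hright u hu _ (mul_mem (hcj v hv) (inv_mem (hcj' v hv))) _ (hcj' v hv)
    rw [inv_mul_cancel_right, h1] at h2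
    exact mul_eq_right.mp h2.symm
  obtain ⟨x, hx, hxa, hxk⟩ := S.hne
  have hall : ∀ v ∈ H, v ∈ V := by
    intro v hv
    have ha2 : (a ^ 2) ∈ Subgroup.normalizer (H : Set G) := pow_mem S.hN 2
    have h1 : v⁻¹ * (a ^ 2 * v * (a ^ 2)⁻¹) ∈ V := by
      have h2 := hsq (a * v * a⁻¹) (hcj v hv)
      rw [show a * (a * v * a⁻¹) * a⁻¹ * (a⁻¹ * (a * v * a⁻¹) * a)⁻¹
        = (a ^ 2 * v * (a ^ 2)⁻¹) * v⁻¹ by rw [pow_two]; group] at h2
      have h3 := hVc _ h2 v hv
      rw [show v⁻¹ * (a ^ 2 * v * (a ^ 2)⁻¹)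
        = v⁻¹ * ((a ^ 2 * v * (a ^ 2)⁻¹ * v⁻¹) * v) by group, ← h3]
      simpa using h2
    obtain ⟨c, hc, hca, hcV⟩ := exists_fixed_coset (p := p)
      (by rw [← pow_mul, mul_comm, pow_mul, S.hap, one_pow]) ha2 S.hcop S.hVH
      (pow_mem S.hVa 2) hv h1
    have hodd : Odd p := (Fact.out : p.Prime).odd_of_ne_two S.hp
    obtain ⟨m, hm⟩ := hodd
    have haa : a * c = c * a := by
      have h4 : (a ^ 2) ^ (m + 1) = a := by
        rw [← pow_mul, show 2 * (m + 1) = p + 1 by omega, pow_succ, S.hap, one_mul]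
      have h5 := (show Commute (a ^ 2) c from hca).pow_left (m + 1)
      rw [h4] at h5
      exact h5.eq
    have := mul_mem (hfx c hc haa) (inv_mem hcV)
    simpa using this
  have hDbot : dd a H ≤ ⊥ := by
    refine (Subgroup.closure_le _).mpr ?_
    rintro _ ⟨h, hh, i, rfl⟩
    show h⁻¹ * (a ^ i * h * (a ^ i)⁻¹) ∈ (⊥ : Subgroup G)
    rw [Subgroup.mem_bot, inv_mul_eq_one]
    exact (mul_inv_eq_iff_eq_mul.mpr
      ((show Commute a h from hfix h (hall h hh)).pow_left i).eq).symm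
  have hx1 : x ∈ (⊥ : Subgroup G) := hDbot (S.hD.symm ▸ hx)
  exact hxk (by rw [Subgroup.mem_bot.mp hx1]; exact one_mem _)

/-- No minimal counterexample has a central `V`. -/
theorem central_false (S : Setting p r a H V) (hVc : ∀ v ∈ V, ∀ h ∈ H, h * v = v * h) : False := by
  classical
  obtain ⟨hfix, hVk, hZ⟩ := central_facts S hVc
  have hH : IsPGroup r H := central_isPGroup S hVc
  have haH : Subgroup.normalizer (H : Set G) ≤ Subgroup.normalizer (frat H : Set G) :=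
    le_normalizer_frat H
  haveI : Group.IsNilpotent H := hH.isNilpotent
  haveI : (V.subgroupOf H).Normal :=
    Subgroup.normal_subgroupOf_iff_le_normalizer S.hVH |>.mpr S.hVn
  have hVH' : V < H := by
    refine lt_of_le_of_ne S.hVH fun e => ?_
    obtain ⟨x, hx, hxa, hxk⟩ := S.hne
    have hDbot : dd a H ≤ ⊥ := by
      refine (Subgroup.closure_le _).mpr ?_
      rintro _ ⟨h, hh, i, rfl⟩
      show h⁻¹ * (a ^ i * h * (a ^ i)⁻¹) ∈ (⊥ : Subgroup G)
      rw [Subgroup.mem_bot, inv_mul_eq_one]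
      exact (mul_inv_eq_iff_eq_mul.mpr
        ((show Commute a h from hfix h (e.symm ▸ hh)).pow_left i).eq).symm
    have hx1 : x ∈ (⊥ : Subgroup G) := hDbot (S.hD.symm ▸ hx)
    exact hxk (by rw [Subgroup.mem_bot.mp hx1]; exact one_mem _)
  -- `Y`, minimal normal invariant above `V`
  haveI : Finite (Subgroup G) := Finite.of_injective (fun K => (K : Set G)) SetLike.coe_injective
  obtain ⟨Y, ⟨hVY, hYH, hYn, hYa⟩, hYmin⟩ := (Set.toFinite {Y : Subgroup G | V < Y ∧ Y ≤ H ∧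
    H ≤ Subgroup.normalizer (Y : Set G) ∧ a ∈ Subgroup.normalizer (Y : Set G)}).exists_minimal
    ⟨H, hVH', le_rfl, Subgroup.le_normalizer, S.hN⟩
  have hYV : ∀ y ∈ Y, ∀ h ∈ H, ⁅y, h⁆ ∈ V := by
    set q := QuotientGroup.mk' (V.subgroupOf H) with hq
    set Yb := (Y.subgroupOf H).map q with hYb
    haveI : Yb.Normal := Subgroup.Normal.map
      (Subgroup.normal_subgroupOf_iff_le_normalizer hYH |>.mpr hYn) q
      (QuotientGroup.mk'_surjective _)
    have hYb1 : Yb ≠ ⊥ := by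
      intro h
      refine hVY.not_ge fun y hy => ?_
      have h1 : q ⟨y, hYH hy⟩ ∈ Yb := Subgroup.mem_map_of_mem q hy
      rw [h, Subgroup.mem_bot] at h1
      exact mem_of_mk_eq_one (x := (⟨y, hYH hy⟩ : H)) h1
    have hmeet := CfsgLib.Critical.inf_center_ne_bot Yb hYb1
    set X : Subgroup G := ((Yb ⊓ Subgroup.center _).comap q).map H.subtype with hX
    have hmem : ∀ x ∈ X, x ∈ Y ∧ ∀ h ∈ H, ⁅x, h⁆ ∈ V := by
      rintro _ ⟨x, ⟨hx1, hx2⟩, rfl⟩
      refine ⟨?_, fun h hh => ?_⟩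
      · obtain ⟨y, hy, hyx⟩ := hx1
        have h2 : (y : G)⁻¹ * (x : G) ∈ V := mem_of_mk_eq hyx
        have h3 : (y : G) * ((y : G)⁻¹ * (x : G)) ∈ Y := mul_mem hy (hVY.le h2)
        rwa [mul_inv_cancel_left] at h3
      · have h2 : q ⁅x, (⟨h, hh⟩ : H)⁆ = 1 := by
          rw [map_commutatorElement, commutatorElement_eq_one_iff_mul_comm]
          exact (Subgroup.mem_center_iff.mp hx2 _).symm
        exact mem_of_mk_eq_one (x := ⁅x, (⟨h, hh⟩ : H)⁆) h2
    have hXH : X ≤ H := Subgroup.map_subtype_le _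
    have hVX : V < X := by
      refine lt_of_le_of_ne (fun v hv => ⟨⟨v, S.hVH hv⟩, ?_, rfl⟩) fun e => hmeet ?_
      · show q _ ∈ Yb ⊓ Subgroup.center _
        rw [show q ⟨v, S.hVH hv⟩ = 1 from (QuotientGroup.eq_one_iff _).mpr hv]
        exact one_mem _
      · rw [eq_bot_iff]
        intro z hz
        obtain ⟨x, rfl⟩ := QuotientGroup.mk'_surjective _ z
        have h1 : (x : G) ∈ X := Subgroup.mem_map_of_mem H.subtype hz
        rw [← e] at h1
        exact Subgroup.mem_bot.mpr ((QuotientGroup.eq_one_iff _).mpr h1)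
    have hback : ∀ x ∈ H, x ∈ Y → (∀ h ∈ H, ⁅x, h⁆ ∈ V) → x ∈ X := by
      intro x hx hxY hxc
      refine ⟨⟨x, hx⟩, ⟨Subgroup.mem_map_of_mem q hxY, ?_⟩, rfl⟩
      refine Subgroup.mem_center_iff.mpr fun z => ?_
      obtain ⟨w, rfl⟩ := QuotientGroup.mk'_surjective _ z
      refine (commutatorElement_eq_one_iff_mul_comm.mp ?_).symm
      rw [← map_commutatorElement]
      exact (QuotientGroup.eq_one_iff _).mpr (hxc w w.2)
    have hXinv : ∀ g, g ∈ Subgroup.normalizer (H : Set G) → g ∈ Subgroup.normalizer (V : Set G) →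
        g ∈ Subgroup.normalizer (Y : Set G) → g ∈ Subgroup.normalizer (X : Set G) := by
      intro g g1 g2 g3
      refine mem_normalizer_of_conj_le fun x hx => ?_
      obtain ⟨hxY, hxc⟩ := hmem x hx
      refine hback _ ((Subgroup.mem_normalizer_iff.mp g1 x).mp (hXH hx))
        ((Subgroup.mem_normalizer_iff.mp g3 x).mp hxY) fun h hh => ?_
      have h1 := (Subgroup.mem_normalizer_iff.mp g2 _).mp
        (hxc (g⁻¹ * h * g) (by simpa using (Subgroup.mem_normalizer_iff.mp (inv_mem g1) h).mp hh))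
      convert h1 using 1
      simp only [commutatorElement_def]
      group
    have hYX : Y ≤ X := hYmin ⟨hVX, hXH,
      fun g hg => hXinv g (Subgroup.le_normalizer hg) (S.hVn hg) (hYn hg),
      hXinv a S.hN S.hVa hYa⟩ (fun x hx => (hmem x hx).1)
    exact fun y hy => (hmem y (hYX hy)).2
  have hYright : ∀ y ∈ Y, ∀ x ∈ H, ∀ z ∈ H, ⁅y, x * z⁆ = ⁅y, x⁆ * ⁅y, z⁆ := by
    intro y hy x hx z hz
    calc ⁅y, x * z⁆ = ⁅y, x⁆ * (x * ⁅y, z⁆ * x⁻¹) := by simp only [commutatorElement_def]; group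
      _ = ⁅y, x⁆ * ⁅y, z⁆ := by rw [hVc _ (hYV y hy z hz) x hx, mul_inv_cancel_right]
  have hYleft : ∀ y ∈ Y, ∀ y' ∈ Y, ∀ z ∈ H, ⁅y * y', z⁆ = ⁅y, z⁆ * ⁅y', z⁆ := by
    intro y hy y' hy' z hz
    calc ⁅y * y', z⁆ = (y * ⁅y', z⁆ * y⁻¹) * ⁅y, z⁆ := by simp only [commutatorElement_def]; group
      _ = ⁅y', z⁆ * ⁅y, z⁆ := by rw [hVc _ (hYV y' hy' z hz) y (hYH hy), mul_inv_cancel_right]
      _ = ⁅y, z⁆ * ⁅y', z⁆ := S.hVc _ (hYV y' hy' z hz) _ (hYV y hy z hz)
  have hyconj : ∀ y ∈ Y, ∀ h ∈ H, ⁅a * y * a⁻¹, a * h * a⁻¹⁆ = ⁅y, h⁆ := by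
    intro y hy h hh
    conv_rhs => rw [← conj_eq_of_commute (hfix _ (hYV y hy h hh))]
    simp only [commutatorElement_def]
    group
  have hcjH : ∀ x ∈ H, ∀ i : ℕ, a ^ i * x * (a ^ i)⁻¹ ∈ H := fun x hx i => conj_pow_mem S.hN hx i
  have hpow : ∀ (i : ℕ), ∀ y ∈ Y, ∀ h ∈ H,
      ⁅a ^ i * y * (a ^ i)⁻¹, a ^ i * h * (a ^ i)⁻¹⁆ = ⁅y, h⁆ := by
    intro i y hy h hh
    induction i with
    | zero => simp
    | succ n ih =>
      rw [show a ^ (n + 1) * y * (a ^ (n + 1))⁻¹ = a * (a ^ n * y * (a ^ n)⁻¹) * a⁻¹ by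
          rw [pow_succ']; group,
        show a ^ (n + 1) * h * (a ^ (n + 1))⁻¹ = a * (a ^ n * h * (a ^ n)⁻¹) * a⁻¹ by
          rw [pow_succ']; group,
        hyconj _ (conj_pow_mem hYa hy n) _ (hcjH h hh n), ih]
  -- the kernel of `y ↦ [y, ·]`
  have hkerY : ∀ y ∈ Y, (∀ h ∈ H, ∀ i : ℕ, ⁅y, h⁻¹ * (a ^ i * h * (a ^ i)⁻¹)⁆ = 1) → y ∈ V := by
    intro y hy hgen
    refine hZ y (hYH hy) fun h hh => ?_
    have hle : dd a H ≤ Subgroup.centralizer {y} := by
      refine (Subgroup.closure_le _).mpr ?_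
      rintro _ ⟨h, hh, i, rfl⟩
      exact mem_centralizer_self_iff.mpr (commutatorElement_eq_one_iff_mul_comm.mp (hgen h hh i))
    exact (mem_centralizer_self_iff.mp (hle (S.hD.symm ▸ hh))).symm
  have hYfix : ∀ y ∈ Y, a * y = y * a → y ∈ V := by
    intro y hy hya
    refine hkerY y hy fun h hh i => ?_
    have hyi : a ^ i * y * (a ^ i)⁻¹ = y :=
      mul_inv_eq_iff_eq_mul.mpr ((show Commute a y from hya).pow_left i).eq
    have h1 := hpow i y hy h hh
    rw [hyi] at h1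
    rw [hYright y hy _ (inv_mem hh) _ (hcjH h hh i), h1, ← hYright y hy _ (inv_mem hh) _ hh,
      inv_mul_cancel, commutatorElement_one_right]
  have hYdec : ∀ y ∈ Y, ∃ v ∈ V, ∃ d ∈ dd a Y, y = v * d := by
    intro y hy
    obtain ⟨c, hc, hca, d, hd, rfl⟩ :=
      exists_fixed_mul S.hap hYa (S.hcop.coprime_dvd_left (Subgroup.card_dvd_of_le hYH)) hy
    exact ⟨c, hYfix c hc hca, d, hd, rfl⟩
  have hYfx : ∀ y ∈ Y, ∀ c ∈ H, a * c = c * a → ⁅y, c⁆ = 1 := by
    intro y hy c hc hca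
    obtain ⟨v, hv, d, hd, rfl⟩ := hYdec y hy
    rw [hYleft v (hVY.le hv) d (dd_le hYa hd) c hc,
      commutatorElement_eq_one_iff_mul_comm.mpr (hVc v hv c hc).symm, one_mul]
    have hle : dd a Y ≤ Subgroup.centralizer {c} := by
      refine (Subgroup.closure_le _).mpr ?_
      rintro _ ⟨y, hy, i, rfl⟩
      refine mem_centralizer_self_iff.mpr (commutatorElement_eq_one_iff_mul_comm.mp ?_).symm
      have hci : a ^ i * c * (a ^ i)⁻¹ = c :=
        mul_inv_eq_iff_eq_mul.mpr ((show Commute a c from hca).pow_left i).eq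
      have h1 := hpow i y hy c hc
      rw [hci] at h1
      rw [hYleft _ (inv_mem hy) _ (conj_pow_mem hYa hy i) c hc, h1,
        ← hYleft _ (inv_mem hy) _ hy c hc, inv_mul_cancel, commutatorElement_one_left]
    exact commutatorElement_eq_one_iff_mul_comm.mpr (mem_centralizer_self_iff.mp (hle hd)).symm
  -- proper invariant subgroups above `Y` centralize it
  have hprop : ∀ M : Subgroup G, M < H → Y ≤ M → a ∈ Subgroup.normalizer (M : Set G) →
      ∀ y ∈ Y, ∀ m ∈ M, ⁅y, m⁆ = 1 := by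
    intro M hM hYM hMa y hy m hm
    obtain ⟨c, hc, hca, d, hd, rfl⟩ :=
      exists_fixed_mul S.hap hMa (S.hcop.coprime_dvd_left (Subgroup.card_dvd_of_le hM.le)) hm
    have hdH : d ∈ H := hM.le (dd_le hMa hd)
    rw [hYright y hy c (hM.le hc) d hdH, hYfx y hy c (hM.le hc) hca, one_mul]
    obtain ⟨v, hv, e, he, rfl⟩ := hYdec y hy
    rw [hYleft v (hVY.le hv) e (dd_le hYa he) d hdH,
      commutatorElement_eq_one_iff_mul_comm.mpr (hVc v hv d hdH).symm, one_mul]
    have hmem : ⁅e, d⁆ ∈ dd a M := by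
      rw [commutatorElement_def]
      have he' := dd_mono hYM he
      exact mul_mem (mul_mem (mul_mem he' hd) (inv_mem he')) (inv_mem hd)
    have hcV := hYV e (dd_le hYa he) d hdH
    exact hVk _ hcV (S.hsub M hM hMa ⟨hmem, mem_centralizer_self_iff.mpr (hfix _ hcV)⟩)
  by_cases hYH' : Y = H
  · exact class_two_false S hVc fun x hx y hy => hYV x (hYH'.symm ▸ hx) y hy
  have hYlt : Y < H := lt_of_le_of_ne hYH hYH'
  set N := H ⊓ Subgroup.centralizer (Y : Set G) with hNdef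
  have hNmem : ∀ {x}, x ∈ N ↔ x ∈ H ∧ ∀ y ∈ Y, ⁅y, x⁆ = 1 := fun {x} =>
    ⟨fun h => ⟨h.1, fun y hy => commutatorElement_eq_one_iff_mul_comm.mpr (h.2 y hy)⟩,
      fun h => ⟨h.1, fun y hy => commutatorElement_eq_one_iff_mul_comm.mp (h.2 y hy)⟩⟩
  have hYN : Y ≤ N := fun x hx => hNmem.mpr ⟨hYH hx,
    fun y hy => hprop Y hYlt le_rfl hYa y hy x hx⟩
  have hΦN : frat H ≤ N := by
    have hc : commutator H ≤ N.subgroupOf H := by
      rw [commutator_def, Subgroup.commutator_le]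
      intro x _ z _
      refine Subgroup.mem_subgroupOf.mpr (hNmem.mpr ⟨(⁅x, z⁆ : H).2, fun y hy => ?_⟩)
      show ⁅y, ⁅(x : G), (z : G)⁆⁆ = 1
      rw [commutatorElement_def (x : G) (z : G)]
      rw [hYright y hy _ (mul_mem (mul_mem x.2 z.2) (inv_mem x.2)) _ (inv_mem z.2),
        hYright y hy _ (mul_mem x.2 z.2) _ (inv_mem x.2), hYright y hy _ x.2 _ z.2,
        show ⁅y, (x : G)⁆ * ⁅y, (z : G)⁆ = ⁅y, (z : G)⁆ * ⁅y, (x : G)⁆ from
          S.hVc _ (hYV y hy _ x.2) _ (hYV y hy _ z.2),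
        mul_assoc (⁅y, (z : G)⁆), ← hYright y hy _ x.2 _ (inv_mem x.2), mul_inv_cancel,
        commutatorElement_one_right, mul_one, ← hYright y hy _ z.2 _ (inv_mem z.2),
        mul_inv_cancel, commutatorElement_one_right]
    haveI : (N.subgroupOf H).Normal := ⟨fun n hn g => by
      rw [show g * n * g⁻¹ = ⁅g, n⁆ * n by rw [commutatorElement_def]; group]
      exact mul_mem (hc (Subgroup.commutator_mem_commutator (Subgroup.mem_top _) (Subgroup.mem_top _))) hn⟩
    have hle := CfsgLib.Critical.frattini_le_of_elementary (N.subgroupOf H) hc (p := r) fun x => by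
      refine Subgroup.mem_subgroupOf.mpr (hNmem.mpr ⟨(x ^ r : H).2, fun y hy => ?_⟩)
      have : ∀ n : ℕ, ⁅y, (x : G) ^ n⁆ = ⁅y, (x : G)⁆ ^ n := by
        intro n
        induction n with
        | zero => simp
        | succ k ih => rw [pow_succ, hYright y hy _ (pow_mem x.2 k) _ x.2, ih, pow_succ]
      rw [Subgroup.coe_pow, this, S.hVexp _ (hYV y hy _ x.2)]
    intro g hg
    obtain ⟨g', hg', rfl⟩ := hg
    exact Subgroup.mem_subgroupOf.mp (hle hg')
  have hNne : N ≠ H := by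
    intro e
    refine hVY.not_ge fun y hy => hZ y (hYH hy) fun h hh => ?_
    exact ((show h ∈ N from e.symm ▸ hh).2 y hy).symm
  have hNlt : N < H := lt_of_le_of_ne inf_le_left hNne
  have hNa : a ∈ Subgroup.normalizer (N : Set G) := by
    refine mem_normalizer_of_conj_le fun x hx => ?_
    obtain ⟨hxH, hxc⟩ := hNmem.mp hx
    refine hNmem.mpr ⟨by simpa using hcjH x hxH 1, fun y hy => ?_⟩
    have hy' : a⁻¹ * y * a ∈ Y := by
      simpa using (Subgroup.mem_normalizer_iff.mp (inv_mem hYa) y).mp hy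
    have := hyconj _ hy' x hxH
    rw [show a * (a⁻¹ * y * a) * a⁻¹ = y by group, hxc _ hy'] at this
    exact this
  have hfxΦ : ∀ c ∈ H, a * c = c * a → c ∈ frat H := fun c hc hca =>
    (Subgroup.commutator_le.mpr fun x hx y hy => commutator_mem_frat hH hx hy)
      (fixed_mem_commutator S.hap S.hN S.hcop S.hD hc hca)
  obtain ⟨M, hMH, hΦM, hMa, hNM, hNMi⟩ :=
    exists_invariant_complement_mod_frat hH S.hap S.hN S.hcop inf_le_left hΦN hNa
  by_cases hMeq : M = H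
  · -- `N = Φ(H)` and `H / Φ(H)` is irreducible
    rw [hMeq, inf_eq_left.mpr (inf_le_left : N ≤ H)] at hNMi
    have hYΦ : Y ≤ frat H := hNMi ▸ hYN
    obtain ⟨h, hh, hhN⟩ := SetLike.exists_of_lt hNlt
    replace hhN : h ∉ frat H := hNMi ▸ hhN
    have hcmH := cm_le S.hN hh (a := a)
    have hsup : cm a h ⊔ frat H = H := by
      by_contra hne
      have hlt : cm a h ⊔ frat H < H := lt_of_le_of_ne (sup_le hcmH (frat_le H)) hne
      have hinv : a ∈ Subgroup.normalizer ((cm a h ⊔ frat H : Subgroup G) : Set G) :=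
        Subgroup.zpowers_le.mp (CfsgLib.Coprime.le_normalizer_sup_of_le
          (Subgroup.zpowers_le.mpr (cm_invariant a h)) (Subgroup.zpowers_le.mpr (haH S.hN)))
      have hle : cm a h ≤ frat H := by
        intro x hx
        rw [← hNMi]
        exact hNmem.mpr ⟨hcmH hx, fun y hy => hprop _ hlt (hYΦ.trans le_sup_right) hinv y hy x
          (Subgroup.mem_sup_left hx)⟩
      obtain ⟨c, hc, hca, hcΦ⟩ := exists_fixed_coset S.hap S.hN S.hcop (frat_le H) (haH S.hN) hh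
        (hle (gen_one_mem_cm a h))
      exact hhN (by simpa using mul_mem (hfxΦ c hc hca) (inv_mem hcΦ))
    have hcm : cm a h = H := eq_of_sup_frat hcmH hsup
    obtain ⟨x, hx, hxa, hxk⟩ := S.hne
    exact hxk (cm_inf_le_kk hh ⟨hcm.symm ▸ hx, mem_centralizer_self_iff.mpr hxa⟩)
  · have hMlt : M < H := lt_of_le_of_ne hMH hMeq
    have hMY : M ⊔ Y = H := by
      by_contra hne
      have hlt : M ⊔ Y < H := lt_of_le_of_ne (sup_le hMH hYH) hne
      have hinv : a ∈ Subgroup.normalizer ((M ⊔ Y : Subgroup G) : Set G) :=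
        Subgroup.zpowers_le.mp (CfsgLib.Coprime.le_normalizer_sup_of_le
          (Subgroup.zpowers_le.mpr hMa) (Subgroup.zpowers_le.mpr hYa))
      have hle : M ≤ N := fun m hm => hNmem.mpr ⟨hMH hm,
        fun y hy => hprop _ hlt le_sup_right hinv y hy m (Subgroup.mem_sup_left hm)⟩
      exact hNne (by rw [← hNM, sup_eq_left.mpr hle])
    set R := dd a M with hR
    have hRH : R ≤ H := (dd_le hMa).trans hMH
    have hRY : R ⊔ Y = H := by
      refine eq_of_sup_frat (sup_le hRH hYH) (le_antisymm (sup_le (sup_le hRH hYH) (frat_le H)) ?_)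
      conv_lhs => rw [← hMY]
      refine sup_le (fun m hm => ?_) (le_sup_right.trans le_sup_left)
      obtain ⟨c, hc, hca, d, hd, rfl⟩ :=
        exists_fixed_mul S.hap hMa (S.hcop.coprime_dvd_left (Subgroup.card_dvd_of_le hMH)) hm
      exact mul_mem (Subgroup.mem_sup_right (hfxΦ c (hMH hc) hca))
        (Subgroup.mem_sup_left (Subgroup.mem_sup_left hd))
    have hRV : ∀ v ∈ V, v ∈ R → v = 1 := fun v hv hvR =>
      hVk v hv (S.hsub M hMlt hMa ⟨hvR, mem_centralizer_self_iff.mpr (hfix v hv)⟩)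
    set R' := ⁅R, R⁆ with hR'
    have hR'R : R' ≤ R := Subgroup.commutator_le.mpr fun x hx y hy => by
      rw [commutatorElement_def]; exact mul_mem (mul_mem (mul_mem hx hy) (inv_mem hx)) (inv_mem hy)
    have hR'n : H ≤ Subgroup.normalizer (R' : Set G) := by
      conv_lhs => rw [← hRY]
      refine sup_le ?_ fun y hy => mem_normalizer_of_conj_le fun x hx => ?_
      · exact CfsgLib.Coprime.le_normalizer_commutator Subgroup.le_normalizer Subgroup.le_normalizer
      · have hxN : x ∈ N := hΦN ((Subgroup.commutator_le.mpr fun u hu w hw =>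
          commutator_mem_frat hH (hRH hu) (hRH hw)) hx)
        rw [show y * x * y⁻¹ = x by rw [hxN.2 y hy]; group]
        exact hx
    have hR'bot : R' = ⊥ := by
      by_contra hne
      haveI : (R'.subgroupOf H).Normal :=
        Subgroup.normal_subgroupOf_iff_le_normalizer (hR'R.trans hRH) |>.mpr hR'n
      have hne' : R'.subgroupOf H ≠ ⊥ := by
        rw [Ne, Subgroup.subgroupOf_eq_bot, disjoint_iff, inf_eq_left.mpr (hR'R.trans hRH)]
        exact hne
      refine CfsgLib.Critical.inf_center_ne_bot _ hne' ?_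
      rw [eq_bot_iff]
      rintro z ⟨hz1, hz2⟩
      rw [Subgroup.mem_bot]
      refine Subtype.ext (hRV _ (hZ _ z.2 fun h hh => ?_) (hR'R hz1))
      exact congrArg Subtype.val (Subgroup.mem_center_iff.mp hz2 ⟨h, hh⟩)
    refine class_two_false S hVc ?_
    set q := QuotientGroup.mk' (V.subgroupOf H) with hq
    have htop : (R ⊔ Y).subgroupOf H = ⊤ := by rw [hRY, Subgroup.subgroupOf_self]
    rw [Subgroup.subgroupOf_sup hRH hYH] at htop
    have hcen : (Y.subgroupOf H).map q ≤ Subgroup.center _ := by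
      rintro _ ⟨y, hy, rfl⟩
      refine Subgroup.mem_center_iff.mpr fun z => ?_
      obtain ⟨w, rfl⟩ := QuotientGroup.mk'_surjective _ z
      refine (commutatorElement_eq_one_iff_mul_comm.mp ?_).symm
      rw [← map_commutatorElement]
      exact (QuotientGroup.eq_one_iff _).mpr (hYV y hy w w.2)
    have hall : ∀ z w : H, q z * q w = q w * q z := by
      have hRc : ∀ z : H, (∀ u : H, (u : G) ∈ R → q z * q u = q u * q z) →
          ∀ w : H, q z * q w = q w * q z := by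
        intro z hz w
        have hw : q w ∈ ((R.subgroupOf H) ⊔ (Y.subgroupOf H)).map q := by
          rw [htop]; exact Subgroup.mem_map_of_mem q (Subgroup.mem_top w)
        have hle : ((R.subgroupOf H) ⊔ (Y.subgroupOf H)).map q ≤ Subgroup.centralizer {q z} := by
          rw [Subgroup.map_sup]
          refine sup_le ?_ (hcen.trans (Subgroup.center_le_centralizer _))
          rintro _ ⟨u, hu, rfl⟩
          exact mem_centralizer_self_iff.mpr (hz u hu)
        exact mem_centralizer_self_iff.mp (hle hw)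
      intro z
      refine hRc z fun u hu => (hRc u (fun u' hu' => ?_) z).symm
      have h1 : (u : G) * u' = u' * u := by
        refine commutatorElement_eq_one_iff_mul_comm.mp (Subgroup.mem_bot.mp ?_)
        rw [← hR'bot]
        exact Subgroup.commutator_mem_commutator hu hu'
      rw [← map_mul, ← map_mul]
      exact congrArg q (Subtype.ext h1)
    intro x hx y hy
    have h1 : q ⁅(⟨x, hx⟩ : H), ⟨y, hy⟩⁆ = 1 := by
      rw [map_commutatorElement, commutatorElement_eq_one_iff_mul_comm]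
      exact hall _ _
    exact mem_of_mk_eq_one (x := ⁅(⟨x, hx⟩ : H), ⟨y, hy⟩⁆) h1

end CfsgLib.FixedGen
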