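import Mathlib
import Cfsg.Agent.Lib.FixedGen.Setting
import Cfsg.Agent.Lib.Char.FrobAction

/-!
The counting step: on an irreducible module of a Frobenius group `T/T₀ ⋊ ⟨a⟩` with kernel acting
without fixed points, some `C(a)` must meet a `[h v, a]`.
-/

set_option autoImplicit false

open scoped commutatorElement

namespace CfsgLib.FixedGen

variable {G : Type*} [Group G] [Finite G]

/-- The order of a module of a Frobenius group in terms of the fixed points of the complement. -/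
theorem natCard_eq_pow {p r q : ℕ} [Fact p.Prime] [Fact r.Prime] [Fact q.Prime] {a : G}
    (hrp : r ≠ p) (hrq : r ≠ q) (hqp : q ≠ p) (hap : a ^ p = 1) (ha1 : a ≠ 1)
    {U T T0 : Subgroup G} (hTq : IsPGroup q T) (hexp : ∀ v ∈ U, v ^ r = 1)
    (hc : ∀ v ∈ U, ∀ w ∈ U, v * w = w * v)
    (hTU : T ≤ Subgroup.normalizer (U : Set G)) (haU : a ∈ Subgroup.normalizer (U : Set G))
    (haT : a ∈ Subgroup.normalizer (T : Set G)) (hT0T : T0 ≤ T)
    (hTT0 : T ≤ Subgroup.normalizer (T0 : Set G)) (haT0 : a ∈ Subgroup.normalizer (T0 : Set G))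
    (hT0U : ∀ t ∈ T0, ∀ v ∈ U, t * v = v * t)
    (hCT : ∀ v ∈ U, (∀ t ∈ T, t * v = v * t) → v = 1)
    (hfix : ∀ t ∈ T, t⁻¹ * (a * t * a⁻¹) ∈ T0 → t ∈ T0) :
    Nat.card U = Nat.card ↥(U ⊓ Subgroup.centralizer {a}) ^ p := by
  classical
  set A := Subgroup.zpowers a with hA
  have hord : orderOf a = p := orderOf_eq_prime hap ha1
  have hAT : A ≤ Subgroup.normalizer (T : Set G) := Subgroup.zpowers_le.mpr haT
  set TA := T ⊔ A with hTA
  have hTAU : TA ≤ Subgroup.normalizer (U : Set G) := sup_le hTU (Subgroup.zpowers_le.mpr haU)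
  have hTA0 : TA ≤ Subgroup.normalizer (T0 : Set G) := sup_le hTT0 (Subgroup.zpowers_le.mpr haT0)
  haveI : (T0.subgroupOf TA).Normal :=
    Subgroup.normal_subgroupOf_iff_le_normalizer (hT0T.trans le_sup_left) |>.mpr hTA0
  let Y := TA ⧸ T0.subgroupOf TA
  letI : Fintype Y := Fintype.ofFinite Y
  set mk : TA →* Y := QuotientGroup.mk' (T0.subgroupOf TA) with hmk
  letI : CommGroup U :=
    { (inferInstance : Group U) with mul_comm := fun x y => Subtype.ext (hc x x.2 y y.2) }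
  let act : Y →* MulAut U := QuotientGroup.lift (T0.subgroupOf TA) (CfsgLib.Coprime.conjAct hTAU)
    (fun t ht => MulEquiv.ext fun v => Subtype.ext (by
      show (t : G) * v * (t : G)⁻¹ = v
      rw [hT0U t ht v v.2]; group))
  let f : Y → U →* U := fun y => (act y).toMonoidHom
  have hf : ∀ (x : TA) (v : U), ((f (mk x) v : U) : G) = x * v * (x : G)⁻¹ := fun x v => rfl
  set EU := (T.subgroupOf TA).map mk with hEU
  set EE := (A.subgroupOf TA).map mk with hEE
  have haTA : a ∈ TA := Subgroup.mem_sup_right (Subgroup.mem_zpowers a)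
  have hqpc : ∀ x, x ∈ T → x ∈ A → x = 1 := by
    intro x hxT hxA
    obtain ⟨n, hn⟩ := IsPGroup.iff_card.mp hTq
    have h1 : orderOf x ∣ q ^ n := hn ▸ (Subgroup.orderOf_coe (⟨x, hxT⟩ : T)) ▸
      orderOf_dvd_natCard (⟨x, hxT⟩ : T)
    have h2 : orderOf x ∣ p := by
      rw [← hord, ← Nat.card_zpowers a]
      exact (Subgroup.orderOf_coe (⟨x, hxA⟩ : A)) ▸ orderOf_dvd_natCard (⟨x, hxA⟩ : A)
    exact orderOf_eq_one_iff.mp (Nat.eq_one_of_dvd_coprimes
      (((Nat.coprime_primes (Fact.out : q.Prime) (Fact.out : p.Prime)).mpr hqp).pow_left n) h1 h2)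
  have hcompl : Subgroup.IsComplement' EU EE := by
    refine Subgroup.isComplement'_of_disjoint_and_mul_eq_univ ?_ ?_
    · rw [disjoint_iff, eq_bot_iff]
      rintro y ⟨⟨t, ht, rfl⟩, b, hb, hbt⟩
      have h1 : (b : G)⁻¹ * (t : G) ∈ T0 :=
        Subgroup.mem_subgroupOf.mp ((QuotientGroup.eq (s := T0.subgroupOf TA)).mp hbt)
      have h2 : (b : G) ∈ T := by
        have := mul_mem (show (t : G) ∈ T from ht) (inv_mem (hT0T (show _ ∈ T0 from h1) : (b : G)⁻¹ * (t : G) ∈ T))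
        rwa [mul_inv_rev, inv_inv, ← mul_assoc, mul_inv_cancel, one_mul] at this
      have h3 : b = 1 := Subtype.ext (hqpc _ h2 hb)
      rw [← hbt, h3, map_one]
      exact one_mem _
    · rw [Set.eq_univ_iff_forall]
      intro y
      obtain ⟨x, rfl⟩ := QuotientGroup.mk'_surjective (T0.subgroupOf TA) y
      have hx : (x : G) ∈ A ⊔ T := (sup_comm T A) ▸ x.2
      obtain ⟨b, hb, t, ht, he⟩ := exists_mul_of_mem_sup hAT hx
      have htb : b * t * b⁻¹ ∈ T := (Subgroup.mem_normalizer_iff.mp (hAT hb) t).mp ht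
      refine ⟨mk ⟨b * t * b⁻¹, Subgroup.mem_sup_left htb⟩, Subgroup.mem_map_of_mem mk htb,
        mk ⟨b, Subgroup.mem_sup_right hb⟩, Subgroup.mem_map_of_mem mk hb, ?_⟩
      show mk _ * mk _ = mk x
      rw [← map_mul]
      refine congrArg mk (Subtype.ext ?_)
      show b * t * b⁻¹ * b = x
      rw [he]; group
  have hUn : ∀ e ∈ EE, ∀ u ∈ EU, e * u * e⁻¹ ∈ EU := by
    rintro _ ⟨b, hb, rfl⟩ _ ⟨t, ht, rfl⟩
    refine ⟨b * t * b⁻¹, (Subgroup.mem_normalizer_iff.mp (hAT hb) (t : G)).mp ht, by simp⟩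
  have hfpf : ∀ e ∈ EE, e ≠ 1 → ∀ u ∈ EU, e * u = u * e → u = 1 := by
    rintro _ ⟨b, hb, rfl⟩ hb1 _ ⟨t, ht, rfl⟩ hcomm
    obtain ⟨i, hi⟩ := Subgroup.mem_zpowers_iff.mp (show (b : G) ∈ A from hb)
    have hndvd : ¬ (p : ℤ) ∣ i := by
      rintro ⟨m, rfl⟩
      refine hb1 ?_
      have : b = 1 := Subtype.ext (by
        rw [← hi, zpow_mul, zpow_natCast, hap, one_zpow]; rfl)
      rw [this, map_one]
    have hcop : IsCoprime i (p : ℤ) :=
      ((Nat.prime_iff_prime_int.mp (Fact.out : p.Prime)).coprime_iff_not_dvd.mpr hndvd).symm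
    obtain ⟨s, w, hsw⟩ := hcop
    have hab : (⟨a, haTA⟩ : TA) = b ^ s := Subtype.ext (by
      rw [SubgroupClass.coe_zpow, ← hi, ← zpow_mul,
        show i * s = 1 - (p : ℤ) * w by linarith, zpow_sub, zpow_one, zpow_mul, zpow_natCast, hap,
        one_zpow, inv_one, mul_one])
    have hca : Commute (mk ⟨a, haTA⟩) (mk t) := by
      rw [hab, map_zpow]
      exact (show Commute (mk b) (mk t) from hcomm).zpow_left s
    have h1 : mk (⟨a, haTA⟩ * t * (⟨a, haTA⟩ : TA)⁻¹) = mk t := by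
      rw [map_mul, map_mul, map_inv, hca.eq, mul_inv_cancel_right]
    have h2 : (t : G)⁻¹ * (a * t * a⁻¹) ∈ T0 :=
      Subgroup.mem_subgroupOf.mp ((QuotientGroup.eq (s := T0.subgroupOf TA)).mp h1.symm)
    exact (QuotientGroup.eq_one_iff t).mpr (hfix t ht h2)
  have hcopY : r.Coprime (Nat.card Y) := by
    obtain ⟨n, hn⟩ := IsPGroup.iff_card.mp hTq
    have h1 : Nat.card Y ∣ Nat.card TA := Subgroup.card_quotient_dvd_card _
    have h2 : Nat.card TA = q ^ n * p := by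
      rw [← hn, ← hord, ← Nat.card_zpowers a]
      exact CfsgLib.Coprime.card_sup_of_coprime hAT
        (by rw [hn, Nat.card_zpowers, hord]
            exact ((Nat.coprime_primes (Fact.out : q.Prime) (Fact.out : p.Prime)).mpr hqp).pow_left n)
    refine Nat.Coprime.coprime_dvd_right h1 (h2 ▸ Nat.Coprime.mul_right ?_ ?_)
    · exact ((Nat.coprime_primes (Fact.out : r.Prime) (Fact.out : q.Prime)).mpr hrq).pow_right n
    · exact (Nat.coprime_primes (Fact.out : r.Prime) (Fact.out : p.Prime)).mpr hrp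
  have key := CfsgLib.FrobAction.card_fixed_points (Q := U) (p := r)
    (fun x => Subtype.ext (by simpa using hexp x x.2)) hcopY EU EE hcompl hUn hfpf f
    (fun x => by show act 1 x = x; rw [map_one]; rfl)
    (fun y z x => by show act (y * z) x = act y (act z x); rw [map_mul]; rfl)
  have hU1 : Nat.card {x : U // ∀ b ∈ EU, f b x = x} = 1 := by
    rw [Nat.card_eq_one_iff_unique]
    refine ⟨⟨fun x y => ?_⟩, ⟨⟨1, fun b _ => map_one _⟩⟩⟩
    have hone : ∀ z : {x : U // ∀ b ∈ EU, f b x = x}, (z : U) = 1 := by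
      intro z
      refine Subtype.ext (hCT _ z.1.2 fun t ht => ?_)
      have := congrArg Subtype.val
        (z.2 (mk ⟨t, Subgroup.mem_sup_left ht⟩) (Subgroup.mem_map_of_mem mk ht))
      rw [hf] at this
      exact mul_inv_eq_iff_eq_mul.mp this
    exact Subtype.ext ((hone x).trans (hone y).symm)
  have hY1 : Nat.card {x : U // ∀ b ∈ (⊤ : Subgroup Y), f b x = x} = 1 := by
    refine le_antisymm ?_ (Nat.succ_le_of_lt ?_)
    · rw [← hU1]
      exact Nat.card_le_card_of_injective (fun x => ⟨x.1, fun b _ => x.2 b (Subgroup.mem_top b)⟩)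
        fun x y h => Subtype.ext (congrArg (fun z : {x : U // ∀ b ∈ EU, f b x = x} => z.1) h)
    · haveI : Nonempty {x : U // ∀ b ∈ (⊤ : Subgroup Y), f b x = x} := ⟨⟨1, fun b _ => map_one _⟩⟩
      exact Nat.card_pos
  have hE : Nat.card EE = p := by
    have h1 : Nat.card (A.subgroupOf TA) = p := by
      rw [Nat.card_congr (Subgroup.subgroupOfEquivOfLe (le_sup_right : A ≤ TA)).toEquiv,
        Nat.card_zpowers, hord]
    rw [hEE, ← h1]
    refine Nat.card_congr (Equiv.ofBijective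
      (fun x : A.subgroupOf TA => (⟨mk x, Subgroup.mem_map_of_mem mk x.2⟩ : (A.subgroupOf TA).map mk))
      ⟨fun x y h => ?_, fun z => ?_⟩).symm
    · have h2 : mk x = mk y := congrArg Subtype.val h
      have h3 : ((x : TA) : G)⁻¹ * ((y : TA) : G) ∈ T0 :=
        Subgroup.mem_subgroupOf.mp ((QuotientGroup.eq (s := T0.subgroupOf TA)).mp h2)
      exact Subtype.ext (Subtype.ext
        (inv_mul_eq_one.mp (hqpc _ (hT0T h3) (mul_mem (inv_mem x.2) y.2))))
    · obtain ⟨x, hx, hxz⟩ := z.2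
      exact ⟨⟨x, hx⟩, Subtype.ext hxz⟩
  have hC : Nat.card {x : U // ∀ b ∈ EE, f b x = x}
      = Nat.card ↥(U ⊓ Subgroup.centralizer {a}) := by
    refine Nat.card_congr ⟨fun x => ⟨x.1, x.1.2, ?_⟩, fun x => ⟨⟨x, x.2.1⟩, ?_⟩,
      fun x => rfl, fun x => rfl⟩
    · have := congrArg Subtype.val (x.2 (mk ⟨a, haTA⟩)
        (Subgroup.mem_map_of_mem mk (Subgroup.mem_zpowers a)))
      rw [hf] at this
      exact mem_centralizer_self_iff.mpr (mul_inv_eq_iff_eq_mul.mp this)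
    · rintro _ ⟨b, hb, rfl⟩
      obtain ⟨i, hi⟩ := Subgroup.mem_zpowers_iff.mp (show (b : G) ∈ A from hb)
      refine Subtype.ext ?_
      rw [hf, ← hi]
      exact mul_inv_eq_iff_eq_mul.mpr
        ((show Commute a (x : G) from mem_centralizer_self_iff.mp x.2.2).zpow_left i).eq
  rwa [hY1, hU1, hC, hE, one_pow, one_mul, mul_one] at key

/-- If no `[h v, a]` contains `U`, then `U = 1`. -/
theorem counting {p r q : ℕ} [Fact p.Prime] [Fact r.Prime] [Fact q.Prime] {a h : G}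
    (hp : p ≠ 2) (hrp : r ≠ p) (hrq : r ≠ q) (hqp : q ≠ p) (hap : a ^ p = 1) (ha1 : a ≠ 1)
    {U T T0 : Subgroup G} (hTq : IsPGroup q T) (hexp : ∀ v ∈ U, v ^ r = 1)
    (hc : ∀ v ∈ U, ∀ w ∈ U, v * w = w * v)
    (hTU : T ≤ Subgroup.normalizer (U : Set G)) (haU : a ∈ Subgroup.normalizer (U : Set G))
    (haT : a ∈ Subgroup.normalizer (T : Set G)) (hT0T : T0 ≤ T)
    (hTT0 : T ≤ Subgroup.normalizer (T0 : Set G)) (haT0 : a ∈ Subgroup.normalizer (T0 : Set G))
    (hT0U : ∀ t ∈ T0, ∀ v ∈ U, t * v = v * t)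
    (hCT : ∀ v ∈ U, (∀ t ∈ T, t * v = v * t) → v = 1)
    (hfix : ∀ t ∈ T, t⁻¹ * (a * t * a⁻¹) ∈ T0 → t ∈ T0)
    (hh : h ∈ T) (hcm : cm a h = T)
    (hirr : ∀ M : Subgroup G, M ≤ U → T ≤ Subgroup.normalizer (M : Set G) →
      a ∈ Subgroup.normalizer (M : Set G) → M = ⊥ ∨ M = U)
    (hnot : ∀ v ∈ U, ¬ U ≤ cm a (h * v)) : U = ⊥ := by
  classical
  set C := U ⊓ Subgroup.centralizer ({a} : Set G) with hC
  have hcard := natCard_eq_pow hrp hrq hqp hap ha1 hTq hexp hc hTU haU haT hT0T hTT0 haT0 hT0U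
    hCT hfix
  obtain ⟨n, hn⟩ := IsPGroup.iff_card.mp hTq
  have hUr : IsPGroup r U := fun v => ⟨1, Subtype.ext (by simpa using hexp v v.2)⟩
  obtain ⟨m, hm⟩ := IsPGroup.iff_card.mp hUr
  have hqr : (q : ℕ).Coprime r :=
    (Nat.coprime_primes (Fact.out : q.Prime) (Fact.out : r.Prime)).mpr (Ne.symm hrq)
  have hcUT : (Nat.card U).Coprime (Nat.card T) := by
    rw [hn, hm]; exact hqr.symm.pow m n
  set K := U ⊔ T with hK
  have haK : a ∈ Subgroup.normalizer (K : Set G) :=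
    Subgroup.zpowers_le.mp (CfsgLib.Coprime.le_normalizer_sup_of_le
      (Subgroup.zpowers_le.mpr haU) (Subgroup.zpowers_le.mpr haT))
  have hUT : U ⊓ T = ⊥ := CfsgLib.Coprime.inf_eq_bot_of_coprime_card hcUT
  have hKcard : Nat.card K = Nat.card U * Nat.card T :=
    CfsgLib.Coprime.card_sup_of_coprime hTU hcUT
  have hKn : K ≤ Subgroup.normalizer (U : Set G) := sup_le Subgroup.le_normalizer hTU
  have hcopK : (Nat.card K).Coprime p := by
    rw [hKcard, hn, hm]
    exact Nat.Coprime.mul_left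
      (((Nat.coprime_primes (Fact.out : r.Prime) (Fact.out : p.Prime)).mpr hrp).pow_left m)
      (((Nat.coprime_primes (Fact.out : q.Prime) (Fact.out : p.Prime)).mpr hqp).pow_left n)
  have hTC : ∀ x ∈ U, ∀ t ∈ T, t * x * t⁻¹ ∈ U := fun x hx t ht =>
    (Subgroup.mem_normalizer_iff.mp (hTU ht) x).mp hx
  have key : ∀ v ∈ U, ∃ c₁ ∈ C, ∃ c₂ ∈ C, v = h⁻¹ * c₁ * h * c₂ := by
    intro v hv
    have hhv : h * v ∈ K := mul_mem (Subgroup.mem_sup_right hh) (Subgroup.mem_sup_left hv)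
    set L := cm a (h * v) with hL
    have hLK : L ≤ K := cm_le haK hhv
    have hconj : ∀ i : ℕ, a ^ i * v * (a ^ i)⁻¹ ∈ U := fun i => conj_pow_mem haU hv i
    have hgen : ∀ i : ℕ, h⁻¹ * (a ^ i * h * (a ^ i)⁻¹)
        = v * ((h * v)⁻¹ * (a ^ i * (h * v) * (a ^ i)⁻¹)) * (a ^ i * v * (a ^ i)⁻¹)⁻¹ :=
      fun i => by group
    have hTle : T ≤ U ⊔ L := by
      conv_lhs => rw [← hcm]
      refine (Subgroup.closure_le _).mpr ?_
      rintro _ ⟨i, rfl⟩
      rw [SetLike.mem_coe, hgen i]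
      exact mul_mem (mul_mem (Subgroup.mem_sup_left hv) (Subgroup.mem_sup_right (gen_mem_cm _ _ i)))
        (inv_mem (Subgroup.mem_sup_left (hconj i)))
    have hsupL : U ⊔ L = K := le_antisymm (sup_le le_sup_left hLK) (sup_le le_sup_left hTle)
    have hLn : L ≤ Subgroup.normalizer (U : Set G) := hLK.trans hKn
    have hMbot : L ⊓ U = ⊥ := by
      refine (hirr (L ⊓ U) inf_le_right ?_ ?_).resolve_right
        fun e => hnot v hv (e ▸ inf_le_left)
      · intro t ht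
        obtain ⟨l, hl, u, hu, rfl⟩ := exists_mul_of_mem_sup hLn ((sup_comm U L) ▸ hTle ht)
        refine mem_normalizer_of_conj_le fun x hx => ?_
        have e : l * u * x * (l * u)⁻¹ = l * x * l⁻¹ := by
          calc l * u * x * (l * u)⁻¹ = l * (u * x) * u⁻¹ * l⁻¹ := by group
            _ = l * (x * u) * u⁻¹ * l⁻¹ := by rw [hc u hu x hx.2]
            _ = l * x * l⁻¹ := by group
        rw [e]
        exact Subgroup.mem_inf.mpr ⟨mul_mem (mul_mem hl hx.1) (inv_mem hl),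
          (Subgroup.mem_normalizer_iff.mp (hLn hl) x).mp hx.2⟩
      · exact Subgroup.zpowers_le.mp (CfsgLib.Coprime.le_normalizer_inf_of_le
          (Subgroup.zpowers_le.mpr (cm_invariant a (h * v))) (Subgroup.zpowers_le.mpr haU))
    have hLcard : Nat.card L = Nat.card T := by
      have h1 := CfsgLib.Coprime.card_sup_mul_card_inf hLn
      rw [hsupL, inf_comm, hMbot, Subgroup.card_bot, mul_one, hKcard] at h1
      exact (Nat.eq_of_mul_eq_mul_left Nat.card_pos h1).symm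
    have hfac : (Nat.card K).factorization q = n := by
      rw [hKcard, hn, hm, Nat.factorization_mul (pow_ne_zero _ (Fact.out : r.Prime).ne_zero)
        (pow_ne_zero _ (Fact.out : q.Prime).ne_zero), Finsupp.add_apply,
        Nat.factorization_eq_zero_of_not_dvd, zero_add, (Fact.out : q.Prime).factorization_pow,
        Finsupp.single_eq_same]
      exact fun hd => (Fact.out : q.Prime).not_dvd_one
        (Nat.Coprime.eq_one_of_dvd (hqr.pow_right m) hd ▸ dvd_rfl)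
    let P₁ : Sylow q K := Sylow.ofCard (T.subgroupOf K) (by
      rw [Nat.card_congr (Subgroup.subgroupOfEquivOfLe (le_sup_right : T ≤ K)).toEquiv, hn, hfac])
    let P₂ : Sylow q K := Sylow.ofCard (L.subgroupOf K) (by
      rw [Nat.card_congr (Subgroup.subgroupOfEquivOfLe hLK).toEquiv, hLcard, hn, hfac])
    obtain ⟨c, hcC, hce⟩ := CfsgLib.Coprime.invariant_sylow_conj (A := Subgroup.zpowers a)
      (Subgroup.zpowers_le.mpr haK) (coprime_zpowers hap hcopK) (Or.inl (isSolvable_zpowers a))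
      P₁ P₂
      (by rw [Sylow.coe_ofCard, Subgroup.map_subgroupOf_eq_of_le le_sup_right]
          exact Subgroup.zpowers_le.mpr haT)
      (by rw [Sylow.coe_ofCard, Subgroup.map_subgroupOf_eq_of_le hLK]
          exact Subgroup.zpowers_le.mpr (cm_invariant a (h * v)))
    have hmap := CfsgLib.Coprime.map_subtype_conj_smul_sylow c P₁
    rw [hce, Sylow.coe_ofCard, Sylow.coe_ofCard, Subgroup.map_subgroupOf_eq_of_le hLK,
      Subgroup.map_subgroupOf_eq_of_le le_sup_right] at hmap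
    obtain ⟨t₀, ht₀, u, hu, hctu⟩ := exists_mul_of_mem_sup hTU (show (c : G) ∈ T ⊔ U by rw [sup_comm]; exact c.2)
    have hca : a * (c : G) = (c : G) * a := hcC a (Subgroup.mem_zpowers a)
    -- `u` is fixed
    have hua : a * u = u * a := by
      have h1 : a * t₀ * a⁻¹ * (a * u * a⁻¹) = t₀ * u := by
        rw [← hctu]
        calc a * t₀ * a⁻¹ * (a * u * a⁻¹) = a * (t₀ * u) * a⁻¹ := by group
          _ = a * c * a⁻¹ := by rw [hctu]
          _ = c := conj_eq_of_commute hca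
      have h2 : a * u * a⁻¹ * u⁻¹ = (a * t₀ * a⁻¹)⁻¹ * t₀ := by
        calc a * u * a⁻¹ * u⁻¹
            = (a * t₀ * a⁻¹)⁻¹ * (a * t₀ * a⁻¹ * (a * u * a⁻¹)) * u⁻¹ := by group
          _ = (a * t₀ * a⁻¹)⁻¹ * (t₀ * u) * u⁻¹ := by rw [h1]
          _ = _ := by group
      have h3 : a * u * a⁻¹ * u⁻¹ ∈ U ⊓ T :=
        Subgroup.mem_inf.mpr ⟨mul_mem ((Subgroup.mem_normalizer_iff.mp haU u).mp hu) (inv_mem hu),
          h2 ▸ mul_mem (inv_mem ((Subgroup.mem_normalizer_iff.mp haT t₀).mp ht₀)) ht₀⟩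
      rw [hUT, Subgroup.mem_bot, mul_inv_eq_one] at h3
      exact commute_of_conj_eq h3
    -- `w := t₀ u t₀⁻¹` conjugates `T` to `L` and is fixed
    have ht₀a : a * t₀ = t₀ * a := by
      have h4 : a * (c * u⁻¹) * a⁻¹ = c * u⁻¹ := by
        calc a * (c * u⁻¹) * a⁻¹ = (a * c * a⁻¹) * (a * u * a⁻¹)⁻¹ := by group
          _ = c * u⁻¹ := by rw [conj_eq_of_commute hca, conj_eq_of_commute hua]
      rw [show (c : G) * u⁻¹ = t₀ by rw [hctu]; group] at h4
      exact commute_of_conj_eq h4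
    set w := t₀ * u * t₀⁻¹ with hw
    have hwU : w ∈ U := hTC u hu t₀ ht₀
    have hwa : a * w = w * a := by
      refine commute_of_conj_eq ?_
      calc a * w * a⁻¹ = (a * t₀ * a⁻¹) * (a * u * a⁻¹) * (a * t₀ * a⁻¹)⁻¹ := by rw [hw]; group
        _ = w := by rw [conj_eq_of_commute ht₀a, conj_eq_of_commute hua]
    obtain ⟨t, htc⟩ : ∃ t : T, (h * v)⁻¹ * (a * (h * v) * a⁻¹) = w * t * w⁻¹ := by
      have h1 := gen_one_mem_cm a (h * v)
      rw [← hL, hmap] at h1
      obtain ⟨y, hy, hye⟩ := h1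
      refine ⟨⟨t₀ * y * t₀⁻¹, mul_mem (mul_mem ht₀ hy) (inv_mem ht₀)⟩, ?_⟩
      rw [← hye]
      show (c : G) * y * (c : G)⁻¹ = w * (t₀ * y * t₀⁻¹) * w⁻¹
      rw [hctu, hw]; group
    set r₁ := h⁻¹ * (a * h * a⁻¹) with hr₁
    have hr₁T : r₁ ∈ T := hcm ▸ gen_one_mem_cm a h
    have htr : (t : G) = r₁ := by
      have e : r₁ = v * ((h * v)⁻¹ * (a * (h * v) * a⁻¹)) * (a * v * a⁻¹)⁻¹ := by rw [hr₁]; group
      rw [htc] at e
      have h2 : (t : G)⁻¹ * r₁
          = ((t : G)⁻¹ * (v * w) * t) * w⁻¹ * (a * v * a⁻¹)⁻¹ := by rw [e]; group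
      have h3 : (t : G)⁻¹ * r₁ ∈ U ⊓ T := by
        refine Subgroup.mem_inf.mpr ⟨?_, mul_mem (inv_mem t.2) hr₁T⟩
        rw [h2]
        refine mul_mem (mul_mem ?_ (inv_mem hwU)) (inv_mem ?_)
        · simpa using hTC _ (mul_mem hv hwU) _ (inv_mem t.2)
        · simpa using hconj 1
      rw [hUT, Subgroup.mem_bot, inv_mul_eq_one] at h3
      exact h3
    rw [htr] at htc
    -- `v w` commutes with `h⁻¹ a h`
    set x := h⁻¹ * a * h with hx
    have e1 : r₁ = x * a⁻¹ := by rw [hr₁, hx]; group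
    have e2 : x * v = v * w * x * w⁻¹ := by
      have h5 : v * ((h * v)⁻¹ * (a * (h * v) * a⁻¹)) = x * v * a⁻¹ := by rw [hx]; group
      rw [htc, e1] at h5
      have h6 : a⁻¹ * w⁻¹ = w⁻¹ * a⁻¹ := by rw [← mul_inv_rev, ← mul_inv_rev, hwa]
      calc x * v = (x * v * a⁻¹) * a := by group
        _ = v * (w * (x * a⁻¹) * w⁻¹) * a := by rw [h5]
        _ = v * w * x * (a⁻¹ * w⁻¹) * a := by group
        _ = v * w * x * (w⁻¹ * a⁻¹) * a := by rw [h6]
        _ = v * w * x * w⁻¹ := by group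
    have e3 : x * (v * w) = (v * w) * x := by
      rw [← mul_assoc, e2]; group
    refine ⟨h * (v * w) * h⁻¹, Subgroup.mem_inf.mpr ⟨hTC _ (mul_mem hv hwU) h hh, ?_⟩, w⁻¹,
      Subgroup.mem_inf.mpr ⟨inv_mem hwU, inv_mem (mem_centralizer_self_iff.mpr hwa)⟩, by group⟩
    refine mem_centralizer_self_iff.mpr ?_
    calc a * (h * (v * w) * h⁻¹) = h * (x * (v * w)) * h⁻¹ := by rw [hx]; group
      _ = h * ((v * w) * x) * h⁻¹ := by rw [e3]
      _ = h * (v * w) * h⁻¹ * a := by rw [hx]; group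
  have hle : Nat.card U ≤ Nat.card C * Nat.card C := by
    rw [← Nat.card_prod]
    refine Nat.card_le_card_of_surjective
      (fun c : C × C => (⟨h⁻¹ * (c.1 : G) * h * (c.2 : G), mul_mem (by
        simpa using hTC _ c.1.2.1 _ (inv_mem hh)) c.2.2.1⟩ : U)) ?_
    rintro ⟨v, hv⟩
    obtain ⟨c₁, h₁, c₂, h₂, rfl⟩ := key v hv
    exact ⟨(⟨c₁, h₁⟩, ⟨c₂, h₂⟩), rfl⟩
  rw [hcard, ← pow_two] at hle
  have hC1 : Nat.card C ≤ 1 := by
    by_contra h1
    have hp3 : 2 < p := lt_of_le_of_ne (Fact.out : p.Prime).two_le (Ne.symm hp)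
    exact absurd hle (not_le.mpr (Nat.pow_lt_pow_right (not_le.mp h1) hp3))
  rw [Subgroup.eq_bot_iff_card, hcard,
    show Nat.card C = 1 from le_antisymm hC1 Nat.card_pos, one_pow]

end CfsgLib.FixedGen
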