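import Mathlib
import Cfsg.Agent.Lib.FixedGen.Counting

/-!
No minimal counterexample has a non-central minimal normal subgroup.
-/

set_option autoImplicit false

open scoped commutatorElement

namespace CfsgLib.FixedGen

variable {G : Type*} [Group G] [Finite G]

/-- A normal abelian-quotient group of exponent `q` over `C` is generated by `C` and a Sylow
`q`-subgroup. -/
theorem le_sup_sylow {q : ℕ} [Fact q.Prime] {N C : Subgroup G}
    (hNC : ∀ x ∈ N, ∀ y ∈ N, ⁅x, y⁆ ∈ C) (hq : ∀ x ∈ N, x ^ q ∈ C) (P : Sylow q N) :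
    N ≤ (P : Subgroup N).map N.subtype ⊔ C := by
  set M := (P : Subgroup N).map N.subtype ⊔ C with hM
  set Q := M.subgroupOf N with hQ
  haveI : Q.Normal := ⟨fun n hn g => by
    rw [show g * n * g⁻¹ = ⁅g, n⁆ * n by rw [commutatorElement_def]; group]
    exact mul_mem (Subgroup.mem_subgroupOf.mpr
      (Subgroup.mem_sup_right (hNC g g.2 n n.2))) hn⟩
  intro x hx
  set x' : N := ⟨x, hx⟩
  have hnd : ¬ q ∣ Q.index := fun h => P.not_dvd_index (h.trans
    (Subgroup.index_dvd_of_le (fun y hy =>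
      Subgroup.mem_subgroupOf.mpr (Subgroup.mem_sup_left (Subgroup.mem_map_of_mem N.subtype hy)))))
  have h1 : x' ^ Q.index ∈ Q := Q.pow_index_mem x'
  have h2 : x' ^ q ∈ Q := Subgroup.mem_subgroupOf.mpr (Subgroup.mem_sup_right (hq x hx))
  obtain ⟨s, hs⟩ : ∃ s : ℤ × ℤ, ((Q.index.gcd q : ℕ) : ℤ) = (Q.index : ℤ) * s.1 + (q : ℤ) * s.2 :=
    ⟨(_, _), Nat.gcd_eq_gcd_ab _ _⟩
  have hg : Q.index.gcd q = 1 :=
    ((Fact.out : q.Prime).coprime_iff_not_dvd.mpr hnd).symm.gcd_eq_one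
  have h3 : x' ^ (((Q.index.gcd q : ℕ) : ℤ)) ∈ Q := by
    rw [hs, zpow_add, zpow_mul, zpow_mul, zpow_natCast, zpow_natCast]
    exact mul_mem (zpow_mem h1 _) (zpow_mem h2 _)
  rw [hg, zpow_natCast, pow_one] at h3
  exact h3

/-- An `r`-group normalizing a non-trivial `r`-subgroup fixes a non-trivial element of it. -/
theorem exists_fixed_of_isPGroup {r : ℕ} [Fact r.Prime] {R V : Subgroup G} (hR : IsPGroup r R)
    (hV : IsPGroup r V) (hVn : V ≠ ⊥) (hRV : R ≤ Subgroup.normalizer (V : Set G)) :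
    ∃ v ∈ V, v ≠ 1 ∧ ∀ g ∈ R, g * v = v * g := by
  classical
  have hdvd : r ∣ Nat.card V := by
    obtain ⟨n, hn⟩ := IsPGroup.iff_card.mp hV
    rcases Nat.eq_zero_or_pos n with rfl | hpos
    · exact absurd (Subgroup.eq_bot_iff_card V |>.mpr (by simpa using hn)) hVn
    · exact hn ▸ dvd_pow_self r hpos.ne'
  letI : MulDistribMulAction R V :=
    MulDistribMulAction.compHom V (CfsgLib.Coprime.conjAct hRV)
  have hone : (1 : V) ∈ MulAction.fixedPoints R V := fun g => smul_one g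
  obtain ⟨v, hv, hv1⟩ := hR.exists_fixed_point_of_prime_dvd_card_of_fixed_point V hdvd hone
  refine ⟨v, v.2, fun h => hv1 (Subtype.ext h.symm), fun g hg => ?_⟩
  have h2 := congrArg Subtype.val (hv ⟨g, hg⟩)
  exact mul_inv_eq_iff_eq_mul.mp h2

variable {p r : ℕ} [Fact p.Prime] [Fact r.Prime] {a : G} {H V : Subgroup G}

/-- No minimal counterexample has a non-central `V`. -/
theorem faithful_false (S : Setting p r a H V) (hnc : ¬ ∀ v ∈ V, ∀ h ∈ H, h * v = v * h) :
    False := by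
  classical
  set A := Subgroup.zpowers a with hA
  have hAH : A ≤ Subgroup.normalizer (H : Set G) := Subgroup.zpowers_le.mpr S.hN
  have hAV : A ≤ Subgroup.normalizer (V : Set G) := Subgroup.zpowers_le.mpr S.hVa
  have ha1 : a ≠ 1 := by
    intro h1
    obtain ⟨x, hx, -, hxk⟩ := S.hne
    have hle : dd a H ≤ ⊥ := by
      refine (Subgroup.closure_le _).mpr ?_
      rintro _ ⟨h, hh, i, rfl⟩
      simp [h1]
    have hx1 : x ∈ (⊥ : Subgroup G) := hle (S.hD.symm ▸ hx)
    exact hxk (by rw [Subgroup.mem_bot.mp hx1]; exact one_mem _)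
  have hcopV : (Nat.card V).Coprime p := S.hcop.coprime_dvd_left (Subgroup.card_dvd_of_le S.hVH)
  haveI : IsMulCommutative V := ⟨⟨fun x y => Subtype.ext (S.hVc x x.2 y y.2)⟩⟩
  have hVr : IsPGroup r V := fun v => ⟨1, Subtype.ext (by simpa using S.hVexp v v.2)⟩
  have hcopAV : (Nat.card A).Coprime (Nat.card V) := coprime_zpowers S.hap hcopV
  have hrp : r ≠ p := by
    rintro rfl
    obtain ⟨n, hn⟩ := IsPGroup.iff_card.mp hVr
    rcases Nat.eq_zero_or_pos n with rfl | hn0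
    · exact S.hV (Subgroup.eq_bot_iff_card V |>.mpr (by simpa using hn))
    · rw [hn, Nat.coprime_pow_left_iff hn0, Nat.coprime_self] at hcopV
      exact (Fact.out : r.Prime).ne_one hcopV
  set D := ⁅V, A⁆ with hD
  have hDV : D ≤ V := CfsgLib.Coprime.commutator_le_left_of_le_normalizer hAV
  have hDfix : (V ⊓ Subgroup.centralizer {a}) ⊓ D = ⊥ := by
    have h := CfsgLib.Coprime.centralizer_inf_commutator_eq_bot hAV hcopAV
    rwa [centralizer_zpowers] at h
  have hVdec : ∀ v ∈ V, ∃ w ∈ V, a * w = w * a ∧ ∃ m ∈ D, v = w * m := by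
    intro v hv
    have h : v⁻¹ * (a * v * a⁻¹) ∈ D := by
      have := Subgroup.commutator_mem_commutator (inv_mem hv) (Subgroup.mem_zpowers a)
      rwa [commutatorElement_def, inv_inv,
        show v⁻¹ * a * v * a⁻¹ = v⁻¹ * (a * v * a⁻¹) by group] at this
    obtain ⟨c, hc, hca, hcD⟩ := exists_fixed_coset S.hap S.hVa hcopV hDV
      (Subgroup.zpowers_le.mp (CfsgLib.Coprime.le_normalizer_commutator hAV Subgroup.le_normalizer))
      hv h
    exact ⟨c, hc, hca, (v⁻¹ * c)⁻¹, inv_mem hcD, by group⟩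
  set B := (V ⊓ Subgroup.centralizer {a} ⊓ kk a H) ⊔ D with hB
  have hBV : B ≤ V := sup_le (inf_le_left.trans inf_le_left) hDV
  have hcommVV : ∀ {X : Subgroup G}, X ≤ V → ∀ {g : G}, g ∈ V →
      g ∈ Subgroup.normalizer (X : Set G) := fun {X} hX {g} hg =>
    mem_normalizer_of_conj_le fun x hx => by
      rw [S.hVc g hg x (hX hx), mul_inv_cancel_right]; exact hx
  have hkkB : ∀ x ∈ V, a * x = x * a → x ∈ kk a H → x ∈ B := fun x hx hxa hxk =>
    Subgroup.mem_sup_left (Subgroup.mem_inf.mpr ⟨Subgroup.mem_inf.mpr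
      ⟨hx, mem_centralizer_self_iff.mpr hxa⟩, hxk⟩)
  have hVB : ¬ V ≤ B := by
    intro hle
    obtain ⟨w, hw, hwa, hwk⟩ := S.exists_fixed_not_mem S.hVH S.hV S.hVn S.hVa
    obtain ⟨k, hk, m, hm, rfl⟩ :=
      exists_mul_of_mem_sup (A := V ⊓ Subgroup.centralizer {a} ⊓ kk a H) (B := D)
        (fun x hx => hcommVV hDV (Subgroup.mem_inf.mp (Subgroup.mem_inf.mp hx).1).1) (hle hw)
    have hmC : m ∈ V ⊓ Subgroup.centralizer {a} := by
      refine Subgroup.mem_inf.mpr ⟨hDV hm, ?_⟩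
      have := mul_mem (inv_mem (Subgroup.mem_inf.mp (Subgroup.mem_inf.mp hk).1).2)
        (mem_centralizer_self_iff.mpr hwa)
      rwa [inv_mul_cancel_left] at this
    have hm1 : m ∈ (⊥ : Subgroup G) := hDfix ▸ Subgroup.mem_inf.mpr ⟨hmC, hm⟩
    exact hwk (by rw [Subgroup.mem_bot.mp hm1, mul_one]; exact hk.2)
  -- the stabilizer of `V / B`
  have hconjV : ∀ g ∈ H, ∀ v ∈ V, g * v * g⁻¹ ∈ V := fun g hg v hv =>
    (Subgroup.mem_normalizer_iff.mp (S.hVn hg) v).mp hv
  let St : Subgroup G :=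
    { carrier := {g | g ∈ H ∧ ∀ v ∈ V, g * v * g⁻¹ * v⁻¹ ∈ B}
      one_mem' := ⟨one_mem _, fun v _ => by simp⟩
      mul_mem' := by
        rintro g g' ⟨hg, hg1⟩ ⟨hg', hg'1⟩
        refine ⟨mul_mem hg hg', fun v hv => ?_⟩
        rw [show g * g' * v * (g * g')⁻¹ * v⁻¹
          = (g * (g' * v * g'⁻¹) * g⁻¹ * (g' * v * g'⁻¹)⁻¹) * (g' * v * g'⁻¹ * v⁻¹) by group]
        exact mul_mem (hg1 _ (hconjV g' hg' v hv)) (hg'1 v hv)
      inv_mem' := by
        rintro g ⟨hg, hg1⟩
        refine ⟨inv_mem hg, fun v hv => ?_⟩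
        have h := inv_mem (hg1 _ (hconjV g⁻¹ (inv_mem hg) v hv))
        convert h using 1
        group }
  have hSt : ∀ {g : G}, g ∈ St ↔ g ∈ H ∧ ∀ v ∈ V, g * v * g⁻¹ * v⁻¹ ∈ B := Iff.rfl
  have hStfix : ∀ c ∈ H, a * c = c * a → c ∈ St := by
    intro c hc hca
    refine hSt.mpr ⟨hc, fun v hv => ?_⟩
    obtain ⟨w, hw, hwa, m, hm, rfl⟩ := hVdec v hv
    have hmV := hDV hm
    have e : c * (w * m) * c⁻¹ * (w * m)⁻¹
        = (c * w * c⁻¹ * w⁻¹) * (c * m * c⁻¹ * m⁻¹) := by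
      calc c * (w * m) * c⁻¹ * (w * m)⁻¹
          = (c * w * c⁻¹) * ((c * m * c⁻¹ * m⁻¹) * w⁻¹) := by group
        _ = (c * w * c⁻¹) * (w⁻¹ * (c * m * c⁻¹ * m⁻¹)) := by
            rw [S.hVc _ (mul_mem (hconjV c hc m hmV) (inv_mem hmV)) _ (inv_mem hw)]
        _ = _ := by group
    rw [e]
    refine mul_mem ?_ (Subgroup.mem_sup_right (mul_mem ?_ (inv_mem hm)))
    · refine hkkB _ (mul_mem (hconjV c hc w hw) (inv_mem hw)) ?_ ?_
      · exact mem_centralizer_self_iff.mp (mul_mem (mul_mem (mul_mem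
          (mem_centralizer_self_iff.mpr hca) (mem_centralizer_self_iff.mpr hwa))
          (inv_mem (mem_centralizer_self_iff.mpr hca))) (inv_mem (mem_centralizer_self_iff.mpr hwa)))
      · obtain ⟨k, hk, v0, hv0, rfl⟩ := exists_mul_of_mem_sup ((kk_le S.hN).trans S.hVn)
          (S.hquot V S.hVH S.hV S.hVn S.hVa c hc hca)
        rw [show k * v0 * w * (k * v0)⁻¹ * w⁻¹
          = k * (v0 * w) * v0⁻¹ * k⁻¹ * w⁻¹ by group, S.hVc v0 hv0 w hw,
          show k * (w * v0) * v0⁻¹ * k⁻¹ * w⁻¹ = k * (w * k⁻¹ * w⁻¹) by group]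
        exact mul_mem hk ((Subgroup.mem_normalizer_iff.mp (fixed_le_normalizer_kk a H
          ⟨S.hVH hw, mem_centralizer_self_iff.mpr hwa⟩) _).mp (inv_mem hk))
    · have hcn : c ∈ Subgroup.normalizer (D : Set G) := by
        refine CfsgLib.Coprime.le_normalizer_commutator (A := Subgroup.zpowers c)
          (Subgroup.zpowers_le.mpr (S.hVn hc)) ?_ (Subgroup.mem_zpowers c)
        rw [hA, Subgroup.zpowers_le]
        refine mem_normalizer_of_conj_le fun x hx => ?_
        obtain ⟨n, rfl⟩ := Subgroup.mem_zpowers_iff.mp hx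
        rw [show c * a ^ n * c⁻¹ = a ^ n by
          rw [((show Commute c a from hca.symm).zpow_right n).eq]; group]
        exact hx
      exact (Subgroup.mem_normalizer_iff.mp hcn m).mp hm
  -- `C = C_H(V)` and a minimal normal subgroup `N` above it
  set C := H ⊓ Subgroup.centralizer (V : Set G) with hC
  have hCH : C < H := lt_of_le_of_ne inf_le_left fun e => hnc fun v hv h hh =>
    ((show h ∈ C from e.symm ▸ hh).2 v hv).symm
  have hCn : H ≤ Subgroup.normalizer (C : Set G) :=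
    CfsgLib.Coprime.le_normalizer_inf_of_le Subgroup.le_normalizer
      (CfsgLib.Coprime.le_normalizer_centralizer S.hVn)
  have hCa : a ∈ Subgroup.normalizer (C : Set G) := Subgroup.zpowers_le.mp
    (CfsgLib.Coprime.le_normalizer_inf_of_le hAH (CfsgLib.Coprime.le_normalizer_centralizer hAV))
  have hCSt : C ≤ St := fun g hg => hSt.mpr ⟨hg.1, fun v hv => by
    rw [← hg.2 v hv]; simp⟩
  haveI : Finite (Subgroup G) := Finite.of_injective (fun K => (K : Set G)) SetLike.coe_injective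
  obtain ⟨N, ⟨hCN, hNH, hNn, hNa⟩, hNmin⟩ := (Set.toFinite {N : Subgroup G | C < N ∧ N ≤ H ∧
    H ≤ Subgroup.normalizer (N : Set G) ∧ a ∈ Subgroup.normalizer (N : Set G)}).exists_minimal
    ⟨H, hCH, le_rfl, Subgroup.le_normalizer, S.hN⟩
  have hAN : A ≤ Subgroup.normalizer (N : Set G) := Subgroup.zpowers_le.mpr hNa
  haveI := S.hsol
  have hNsol : Group.IsSolvable N := CfsgLib.Coprime.isSolvable_of_le hNH S.hsol
  haveI := hNsol
  have hNne : N ≠ ⊥ := fun e => absurd (e ▸ hCN) not_lt_bot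
  have hderived : ∀ x ∈ N, ∀ y ∈ N, ⁅x, y⁆ ∈ C := by
    by_contra hcon
    set M := ⁅N, N⁆ ⊔ C with hM
    have hNNle : ⁅N, N⁆ ≤ N :=
      CfsgLib.Coprime.commutator_le_left_of_le_normalizer Subgroup.le_normalizer
    have hMN : M ≤ N := sup_le hNNle hCN.le
    have hCM : C < M := lt_of_le_of_ne le_sup_right fun e => hcon fun x hx y hy =>
      e ▸ Subgroup.mem_sup_left (Subgroup.commutator_mem_commutator hx hy)
    have hMeq : M = N := le_antisymm hMN (hNmin ⟨hCM, hMN.trans hNH,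
      CfsgLib.Coprime.le_normalizer_sup_of_le (CfsgLib.Coprime.le_normalizer_commutator hNn hNn) hCn,
      Subgroup.zpowers_le.mp (CfsgLib.Coprime.le_normalizer_sup_of_le
        (CfsgLib.Coprime.le_normalizer_commutator hAN hAN) (Subgroup.zpowers_le.mpr hCa))⟩ hMN)
    -- a perfect solvable quotient is trivial
    haveI : (C.subgroupOf N).Normal :=
      Subgroup.normal_subgroupOf_iff_le_normalizer hCN.le |>.mpr (hNH.trans hCn)
    haveI : Nontrivial (N ⧸ C.subgroupOf N) :=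
      QuotientGroup.nontrivial_iff.mpr fun h => hCN.not_ge (Subgroup.subgroupOf_eq_top.mp h)
    have hlt := Group.IsSolvable.commutator_lt_top_of_nontrivial (G := N ⧸ C.subgroupOf N)
    refine hlt.not_ge fun z _ => ?_
    obtain ⟨x, rfl⟩ := QuotientGroup.mk'_surjective _ z
    have hx : (x : G) ∈ M := by rw [hMeq]; exact x.2
    obtain ⟨y, hy, c, hc, he⟩ := exists_mul_of_mem_sup (A := ⁅N, N⁆) (B := C)
      ((hNNle.trans hNH).trans hCn) hx
    have hy' : y ∈ (commutator N).map N.subtype := by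
      rwa [commutator_def, Subgroup.map_commutator, ← MonoidHom.range_eq_map,
        Subgroup.range_subtype]
    obtain ⟨y', hy', rfl⟩ := hy'
    have : x = y' * ⟨c, hCN.le hc⟩ := Subtype.ext he
    rw [this, map_mul, show QuotientGroup.mk' (C.subgroupOf N) ⟨c, hCN.le hc⟩ = 1 from
      (QuotientGroup.eq_one_iff _).mpr hc, mul_one]
    have h5 := Subgroup.mem_map_of_mem (QuotientGroup.mk' (C.subgroupOf N)) hy'
    rw [commutator_def, Subgroup.map_commutator] at h5
    exact Subgroup.commutator_mono le_top le_top h5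
  -- exponent `q`
  obtain ⟨x₀, hx₀, hx₀C⟩ := SetLike.exists_of_lt hCN
  obtain ⟨q, hq, hexq⟩ : ∃ q : ℕ, q.Prime ∧ ∃ x ∈ N, x ∉ C ∧ x ^ q ∈ C := by
    have hne : ∃ m : ℕ, 0 < m ∧ x₀ ^ m ∈ C :=
      ⟨orderOf x₀, orderOf_pos x₀, by rw [pow_orderOf_eq_one]; exact one_mem _⟩
    obtain ⟨hm0, hm⟩ := Nat.find_spec hne
    set m := Nat.find hne with hmdef
    have hm1 : m ≠ 1 := fun h => hx₀C (by rwa [h, pow_one] at hm)
    obtain ⟨k, hk⟩ := Nat.minFac_dvd m
    have hqm : (Nat.minFac m).Prime := Nat.minFac_prime hm1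
    have hk0 : 0 < k := Nat.pos_of_ne_zero fun h => by rw [h, mul_zero] at hk; omega
    refine ⟨m.minFac, hqm, x₀ ^ k, pow_mem hx₀ k, fun h => Nat.find_min hne ?_ ⟨hk0, h⟩,
      by rw [← pow_mul, mul_comm k, ← hk]; exact hm⟩
    show k < m
    calc k = 1 * k := (one_mul k).symm
      _ < m.minFac * k := Nat.mul_lt_mul_of_pos_right hqm.one_lt hk0
      _ = m := hk.symm
  haveI : Fact q.Prime := ⟨hq⟩
  have hqC : ∀ x ∈ N, x ^ q ∈ C := by
    haveI : (C.subgroupOf N).Normal :=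
      Subgroup.normal_subgroupOf_iff_le_normalizer hCN.le |>.mpr (hNH.trans hCn)
    set f := QuotientGroup.mk' (C.subgroupOf N) with hf
    have hfc : ∀ x y : N, Commute (f x) (f y) := fun x y => by
      refine commutatorElement_eq_one_iff_mul_comm.mp ?_
      rw [← map_commutatorElement]
      exact (QuotientGroup.eq_one_iff _).mpr (hderived x x.2 y y.2)
    let E : Subgroup G :=
      { carrier := {x | ∃ hx : x ∈ N, x ^ q ∈ C}
        one_mem' := ⟨one_mem _, by rw [one_pow]; exact one_mem _⟩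
        mul_mem' := by
          rintro x y ⟨hx, hxq⟩ ⟨hy, hyq⟩
          refine ⟨mul_mem hx hy, ?_⟩
          have h1 : f ((⟨x, hx⟩ * ⟨y, hy⟩ : N) ^ q) = 1 := by
            rw [map_pow, map_mul, (hfc _ _).mul_pow, ← map_pow, ← map_pow,
              show f (⟨x, hx⟩ ^ q : N) = 1 from (QuotientGroup.eq_one_iff _).mpr hxq,
              show f (⟨y, hy⟩ ^ q : N) = 1 from (QuotientGroup.eq_one_iff _).mpr hyq, mul_one]
          exact Subgroup.mem_subgroupOf.mp ((QuotientGroup.eq_one_iff (N := C.subgroupOf N) _).mp h1)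
        inv_mem' := by
          rintro x ⟨hx, hxq⟩
          exact ⟨inv_mem hx, by rw [inv_pow]; exact inv_mem hxq⟩ }
    have hE : ∀ {x}, x ∈ E ↔ x ∈ N ∧ x ^ q ∈ C :=
      fun {x} => ⟨fun ⟨h1, h2⟩ => ⟨h1, h2⟩, fun ⟨h1, h2⟩ => ⟨h1, h2⟩⟩
    have hEN : E ≤ N := fun x hx => (hE.mp hx).1
    have hCE : C < E := by
      refine lt_of_le_of_ne (fun x hx => hE.mpr ⟨hCN.le hx, pow_mem hx q⟩) fun e => ?_
      obtain ⟨x, hx, hxC, hxq⟩ := hexq
      exact hxC (e.symm ▸ hE.mpr ⟨hx, hxq⟩)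
    have hinv : ∀ g, g ∈ Subgroup.normalizer (N : Set G) → g ∈ Subgroup.normalizer (C : Set G) →
        g ∈ Subgroup.normalizer (E : Set G) := fun g g1 g2 =>
      mem_normalizer_of_conj_le fun x hx => hE.mpr
        ⟨(Subgroup.mem_normalizer_iff.mp g1 x).mp (hE.mp hx).1, by
          rw [conj_pow]
          exact (Subgroup.mem_normalizer_iff.mp g2 _).mp (hE.mp hx).2⟩
    have hNE := hNmin ⟨hCE, hEN.trans hNH, fun g hg => hinv g (hNn hg) (hCn hg), hinv a hNa hCa⟩ hEN
    exact fun x hx => (hE.mp (hNE hx)).2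
  -- `q ≠ r`
  have hqr : q ≠ r := by
    rintro rfl
    set P : Sylow q N := default
    set R := (P : Subgroup N).map N.subtype
    have hRN : R ≤ N := Subgroup.map_subtype_le _
    have hle := le_sup_sylow hderived hqC P
    obtain ⟨v, hv, hv1, hvR⟩ := exists_fixed_of_isPGroup (R := R) (P.2.map _) hVr S.hV
      (hRN.trans (hNH.trans S.hVn))
    set U := V ⊓ Subgroup.centralizer (N : Set G) with hU
    have hvU : v ∈ U := by
      refine Subgroup.mem_inf.mpr ⟨hv, fun x hx => ?_⟩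
      have h := hle hx
      have hsub : R ⊔ C ≤ Subgroup.centralizer {v} :=
        sup_le (fun g hg => mem_centralizer_self_iff.mpr (hvR g hg).symm)
          fun g hg => mem_centralizer_self_iff.mpr (hg.2 v hv)
      exact (mem_centralizer_self_iff.mp (hsub h)).symm
    rcases S.hVmin U inf_le_left
        (CfsgLib.Coprime.le_normalizer_inf_of_le S.hVn (CfsgLib.Coprime.le_normalizer_centralizer hNn))
        (Subgroup.zpowers_le.mp (CfsgLib.Coprime.le_normalizer_inf_of_le hAV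
          (CfsgLib.Coprime.le_normalizer_centralizer hAN))) with h | h
    · rw [h] at hvU
      exact hv1 hvU
    · refine hCN.not_ge fun x hx => Subgroup.mem_inf.mpr ⟨hNH hx, fun w hw => ?_⟩
      exact ((show w ∈ U from h.symm ▸ hw).2 x hx).symm
  have hNSt : ¬ N ≤ St := by
    intro hle
    set U := ⁅V, N⁆ with hU
    have hUB : U ≤ B := Subgroup.commutator_le.mpr fun v hv n hn => by
      have h := inv_mem ((hSt.mp (hle hn)).2 v hv)
      rw [commutatorElement_def]
      convert h using 1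
      group
    rcases S.hVmin U (CfsgLib.Coprime.commutator_le_left_of_le_normalizer (hNH.trans S.hVn))
        (CfsgLib.Coprime.le_normalizer_commutator S.hVn hNn)
        (Subgroup.zpowers_le.mp (CfsgLib.Coprime.le_normalizer_commutator hAV hAN)) with h | h
    · refine hCN.not_ge fun x hx => Subgroup.mem_inf.mpr ⟨hNH hx, fun v hv => ?_⟩
      exact commutatorElement_eq_one_iff_mul_comm.mp (Subgroup.mem_bot.mp
        (h ▸ Subgroup.commutator_mem_commutator hv hx : ⁅v, x⁆ ∈ (⊥ : Subgroup G)))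
    · exact hVB (h ▸ hUB)
  have hcopN : (Nat.card N).Coprime p := S.hcop.coprime_dvd_left (Subgroup.card_dvd_of_le hNH)
  obtain ⟨P, hPa⟩ := CfsgLib.Coprime.exists_invariant_sylow (A := A) (K := N) hAN
    (coprime_zpowers S.hap hcopN) (Or.inl (isSolvable_zpowers a)) q
  set Q := (P : Subgroup N).map N.subtype with hQ
  have hQN : Q ≤ N := Subgroup.map_subtype_le _
  have hQSt : ¬ Q ≤ St := fun h => hNSt ((le_sup_sylow hderived hqC P).trans (sup_le h hCSt))
  obtain ⟨T, ⟨hTQ, hTa, hTSt⟩, hTmin⟩ := (Set.toFinite {T : Subgroup G | T ≤ Q ∧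
    a ∈ Subgroup.normalizer (T : Set G) ∧ ¬ T ≤ St}).exists_minimal
    ⟨Q, le_rfl, Subgroup.zpowers_le.mp hPa, hQSt⟩
  have hTH : T ≤ H := hTQ.trans (hQN.trans hNH)
  have hQq : IsPGroup q Q := P.2.map _
  have hTq : IsPGroup q T := hQq.to_le hTQ
  have hAT : A ≤ Subgroup.normalizer (T : Set G) := Subgroup.zpowers_le.mpr hTa
  set T0 := T ⊓ St with hT0
  have hStA : a ∈ Subgroup.normalizer (St : Set G) := by
    refine mem_normalizer_of_conj_le fun g hg => hSt.mpr
      ⟨(Subgroup.mem_normalizer_iff.mp S.hN g).mp (hSt.mp hg).1, fun v hv => ?_⟩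
    have hv' : a⁻¹ * v * a ∈ V := by
      simpa using (Subgroup.mem_normalizer_iff.mp (inv_mem S.hVa) v).mp hv
    have hBa : a ∈ Subgroup.normalizer (B : Set G) := by
      refine Subgroup.zpowers_le.mp (CfsgLib.Coprime.le_normalizer_sup_of_le ?_
        (CfsgLib.Coprime.le_normalizer_commutator hAV Subgroup.le_normalizer))
      rw [Subgroup.zpowers_le]
      refine mem_normalizer_of_conj_le fun x hx => ?_
      rw [conj_eq_of_commute (mem_centralizer_self_iff.mp hx.1.2)]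
      exact hx
    have h := (Subgroup.mem_normalizer_iff.mp hBa _).mp ((hSt.mp hg).2 _ hv')
    convert h using 1
    group
  have hT0a : a ∈ Subgroup.normalizer (T0 : Set G) := Subgroup.zpowers_le.mp
    (CfsgLib.Coprime.le_normalizer_inf_of_le hAT (Subgroup.zpowers_le.mpr hStA))
  have hTT0 : T ≤ Subgroup.normalizer (T0 : Set G) := by
    have hT0lt : T0 < T := lt_of_le_of_ne inf_le_left fun e => hTSt (e ▸ inf_le_right)
    haveI := hTq.isNilpotent
    have hlt : T0.subgroupOf T < ⊤ := lt_top_iff_ne_top.mpr fun he =>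
      hT0lt.not_ge (Subgroup.subgroupOf_eq_top.mp he)
    obtain ⟨x, hx, hxT0⟩ :=
      SetLike.exists_of_lt (Group.normalizerCondition_of_isNilpotent (T0.subgroupOf T) hlt)
    set M := T ⊓ Subgroup.normalizer (T0 : Set G) with hMdef
    have hxM : (x : G) ∈ M := by
      refine Subgroup.mem_inf.mpr ⟨x.2, mem_normalizer_of_conj_le fun y hy => ?_⟩
      have h := (Subgroup.mem_normalizer_iff.mp hx ⟨y, (Subgroup.mem_inf.mp hy).1⟩).mp hy
      exact h
    have hMa : a ∈ Subgroup.normalizer (M : Set G) := Subgroup.zpowers_le.mp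
      (CfsgLib.Coprime.le_normalizer_inf_of_le hAT
        ((Subgroup.zpowers_le.mpr hT0a).trans Subgroup.le_normalizer))
    exact (hTmin ⟨inf_le_left.trans hTQ, hMa, fun h => hxT0 (Subgroup.mem_inf.mpr ⟨x.2, h hxM⟩)⟩
      inf_le_left).trans inf_le_right
  have hcopT : (Nat.card T).Coprime p := S.hcop.coprime_dvd_left (Subgroup.card_dvd_of_le hTH)
  have hfix : ∀ t ∈ T, t⁻¹ * (a * t * a⁻¹) ∈ T0 → t ∈ T0 := by
    intro t ht htT0
    obtain ⟨c, hc, hca, hcT0⟩ := exists_fixed_coset S.hap hTa hcopT inf_le_left hT0a ht htT0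
    refine Subgroup.mem_inf.mpr ⟨ht, ?_⟩
    have := mul_mem (hStfix c (hTH hc) hca) (inv_mem (Subgroup.mem_inf.mp hcT0).2)
    simpa using this
  obtain ⟨h, hh, hhSt⟩ : ∃ h ∈ T, h ∉ St := Set.not_subset.mp hTSt
  have hcm : cm a h = T := by
    refine le_antisymm (cm_le hTa hh) (hTmin ⟨(cm_le hTa hh).trans hTQ, cm_invariant a h, ?_⟩
      (cm_le hTa hh))
    intro hle
    exact hhSt (Subgroup.mem_inf.mp (hfix h hh
      (Subgroup.mem_inf.mpr ⟨cm_le hTa hh (gen_one_mem_cm a h), hle (gen_one_mem_cm a h)⟩))).2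
  -- modules
  have hqp : q ≠ p := by
    rintro rfl
    obtain ⟨n, hn⟩ := IsPGroup.iff_card.mp hTq
    rcases Nat.eq_zero_or_pos n with rfl | hn0
    · have hbot : T = ⊥ := Subgroup.eq_bot_iff_card T |>.mpr (by simpa using hn)
      exact hTSt (hbot ▸ bot_le)
    · rw [hn, Nat.coprime_pow_left_iff hn0, Nat.coprime_self] at hcopT
      exact hq.ne_one hcopT
  have hTV : T ≤ Subgroup.normalizer (V : Set G) := hTH.trans S.hVn
  have hT0T : T0 ≤ T := inf_le_left
  have hcopT0V : (Nat.card T0).Coprime (Nat.card V) := by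
    obtain ⟨m, hm⟩ := IsPGroup.iff_card.mp hVr
    obtain ⟨n, hn⟩ := IsPGroup.iff_card.mp (hTq.to_le hT0T)
    rw [hm, hn]
    exact ((Nat.coprime_primes hq (Fact.out : r.Prime)).mpr hqr).pow n m
  set D0 := ⁅V, T0⁆ with hD0
  have hD0B : D0 ≤ B := Subgroup.commutator_le.mpr fun v hv t ht => by
    have h := inv_mem ((hSt.mp (Subgroup.mem_inf.mp ht).2).2 v hv)
    rw [commutatorElement_def]
    convert h using 1
    group
  set U0 := V ⊓ Subgroup.centralizer (T0 : Set G) with hU0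
  have hVsplit : U0 ⊔ D0 = V :=
    CfsgLib.Coprime.centralizer_sup_commutator_eq (hT0T.trans hTV) hcopT0V
  have hTU0 : T ≤ Subgroup.normalizer (U0 : Set G) :=
    CfsgLib.Coprime.le_normalizer_inf_of_le hTV (CfsgLib.Coprime.le_normalizer_centralizer hTT0)
  have hAU0 : A ≤ Subgroup.normalizer (U0 : Set G) :=
    CfsgLib.Coprime.le_normalizer_inf_of_le hAV
      (CfsgLib.Coprime.le_normalizer_centralizer (Subgroup.zpowers_le.mpr hT0a))
  haveI : IsMulCommutative U0 := ⟨⟨fun x y => Subtype.ext (S.hVc x x.2.1 y y.2.1)⟩⟩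
  have hcopTU0 : (Nat.card T).Coprime (Nat.card U0) := by
    obtain ⟨m, hm⟩ := IsPGroup.iff_card.mp (hVr.to_le (inf_le_left : U0 ≤ V))
    obtain ⟨n, hn⟩ := IsPGroup.iff_card.mp hTq
    rw [hm, hn]
    exact ((Nat.coprime_primes hq (Fact.out : r.Prime)).mpr hqr).pow n m
  set U1 := ⁅U0, T⁆ with hU1
  have hU1U0 : U1 ≤ U0 := CfsgLib.Coprime.commutator_le_left_of_le_normalizer hTU0
  have hU1B : ¬ U1 ≤ B := by
    intro hle
    refine hTSt fun t ht => hSt.mpr ⟨hTH ht, fun v hv => ?_⟩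
    obtain ⟨u, hu, m, hm, rfl⟩ := exists_mul_of_mem_sup
      (fun x hx => hcommVV (CfsgLib.Coprime.commutator_le_left_of_le_normalizer (hT0T.trans hTV))
        (Subgroup.mem_inf.mp hx).1) (hVsplit.symm ▸ hv : v ∈ U0 ⊔ D0)
    have hmV : m ∈ V := CfsgLib.Coprime.commutator_le_left_of_le_normalizer (hT0T.trans hTV) hm
    have huV := (Subgroup.mem_inf.mp hu).1
    have htn : t ∈ Subgroup.normalizer (D0 : Set G) :=
      CfsgLib.Coprime.le_normalizer_commutator hTV hTT0 ht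
    have e : t * (u * m) * t⁻¹ * (u * m)⁻¹
        = (t * u * t⁻¹ * u⁻¹) * (t * m * t⁻¹ * m⁻¹) := by
      calc t * (u * m) * t⁻¹ * (u * m)⁻¹
          = (t * u * t⁻¹) * ((t * m * t⁻¹ * m⁻¹) * u⁻¹) := by group
        _ = (t * u * t⁻¹) * (u⁻¹ * (t * m * t⁻¹ * m⁻¹)) := by
            rw [S.hVc _ (mul_mem (hconjV t (hTH ht) m hmV) (inv_mem hmV)) _ (inv_mem huV)]
        _ = _ := by group
    rw [e]
    refine mul_mem ?_ (hD0B (mul_mem ((Subgroup.mem_normalizer_iff.mp htn m).mp hm) (inv_mem hm)))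
    refine hle ?_
    have := inv_mem (Subgroup.commutator_mem_commutator hu ht)
    rw [commutatorElement_inv, commutatorElement_def] at this
    exact this
  obtain ⟨U, ⟨hUU1, hUT, hUa, hUB⟩, hUmin⟩ := (Set.toFinite {U : Subgroup G | U ≤ U1 ∧
    T ≤ Subgroup.normalizer (U : Set G) ∧ a ∈ Subgroup.normalizer (U : Set G) ∧ ¬ U ≤ B}).exists_minimal
    ⟨U1, le_rfl, CfsgLib.Coprime.le_normalizer_commutator hTU0 Subgroup.le_normalizer,
      Subgroup.zpowers_le.mp (CfsgLib.Coprime.le_normalizer_commutator hAU0 hAT), hU1B⟩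
  have hUV : U ≤ V := (hUU1.trans hU1U0).trans inf_le_left
  have hcopUA : (Nat.card ↥(T ⊔ A)).Coprime (Nat.card U) := by
    obtain ⟨m, hm⟩ := IsPGroup.iff_card.mp (hVr.to_le hUV)
    obtain ⟨n, hn⟩ := IsPGroup.iff_card.mp hTq
    have hcTA : (Nat.card T).Coprime (Nat.card A) := (coprime_zpowers S.hap hcopT).symm
    rw [CfsgLib.Coprime.card_sup_of_coprime hAT hcTA, hm, hn]
    refine Nat.Coprime.mul_left (((Nat.coprime_primes hq (Fact.out : r.Prime)).mpr hqr).pow n m) ?_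
    exact (((Nat.coprime_primes (Fact.out : p.Prime) (Fact.out : r.Prime)).mpr (Ne.symm hrp)).pow_right m
      ).coprime_dvd_left (card_zpowers_dvd S.hap)
  have hirr : ∀ M : Subgroup G, M ≤ U → T ≤ Subgroup.normalizer (M : Set G) →
      a ∈ Subgroup.normalizer (M : Set G) → M = ⊥ ∨ M = U := by
    intro M hMU hMT hMa
    by_contra hcon
    rw [not_or] at hcon
    obtain ⟨hM1, hM2⟩ := hcon
    haveI : IsMulCommutative U := ⟨⟨fun x y => Subtype.ext (S.hVc x (hUV x.2) y (hUV y.2))⟩⟩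
    obtain ⟨W₀, hW₀, hd₀, hs₀⟩ := exists_disjoint_complement (r := r) hMU
      (fun v hv => S.hVexp v (hUV hv)) (fun v hv w hw => S.hVc v (hUV hv) w (hUV hw))
    obtain ⟨W, hWU, hWA, hd, hs⟩ := CfsgLib.Coprime.exists_invariant_complement
      (A := T ⊔ A) (V := U) (U := M) (sup_le hUT (Subgroup.zpowers_le.mpr hUa)) hcopUA hMU
      (sup_le hMT (Subgroup.zpowers_le.mpr hMa)) hW₀ hd₀ hs₀
    have hsmall : ∀ X : Subgroup G, X ≤ U → X ≠ U → T ≤ Subgroup.normalizer (X : Set G) →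
        a ∈ Subgroup.normalizer (X : Set G) → X ≤ B := by
      intro X hX hXne hXT hXa
      by_contra hXB
      exact hXne (le_antisymm hX (hUmin ⟨hX.trans hUU1, hXT, hXa, hXB⟩ hX))
    refine hUB ?_
    rw [← hs]
    refine sup_le (hsmall M hMU hM2 hMT hMa) (hsmall W hWU ?_ (le_sup_left.trans hWA)
      (hWA (Subgroup.mem_sup_right (Subgroup.mem_zpowers a))))
    intro e
    rw [e, inf_eq_left.mpr hMU] at hd
    exact hM1 hd
  have hCT : ∀ v ∈ U, (∀ t ∈ T, t * v = v * t) → v = 1 := by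
    intro v hv hvT
    refine Subgroup.mem_bot.mp ((CfsgLib.Coprime.centralizer_inf_commutator_eq_bot hTU0 hcopTU0).le ?_)
    exact Subgroup.mem_inf.mpr ⟨Subgroup.mem_inf.mpr ⟨hU1U0 (hUU1 hv), fun t ht => hvT t ht⟩,
      hUU1 hv⟩
  have hnot : ∀ v ∈ U, ¬ U ≤ cm a (h * v) := by
    intro v hv hle
    refine hUB fun u hu => ?_
    obtain ⟨c, hc, hca, d, hd, rfl⟩ := exists_fixed_mul S.hap hUa
      (hcopV.coprime_dvd_left (Subgroup.card_dvd_of_le hUV)) hu
    refine mul_mem (hkkB c (hUV hc) hca (cm_inf_le_kk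
      (mul_mem (hTH hh) (S.hVH (hUV hv))) ⟨hle hc, mem_centralizer_self_iff.mpr hca⟩))
      (Subgroup.mem_sup_right ?_)
    have hdd : dd a U ≤ D := by
      refine (Subgroup.closure_le _).mpr ?_
      rintro _ ⟨x, hx, i, rfl⟩
      have := Subgroup.commutator_mem_commutator (inv_mem (hUV hx))
        (pow_mem (Subgroup.mem_zpowers a) i : a ^ i ∈ A)
      rw [commutatorElement_def, inv_inv] at this
      rw [SetLike.mem_coe]
      convert this using 1
      group
    exact hdd hd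
  exact hUB ((counting S.hp hrp hqr.symm hqp S.hap ha1 hTq (fun v hv => S.hVexp v (hUV hv))
    (fun v hv w hw => S.hVc v (hUV hv) w (hUV hw)) hUT hUa hTa hT0T hTT0 hT0a
    (fun t ht v hv => (hU1U0 (hUU1 hv)).2 t ht) hCT hfix hh hcm hirr hnot).le.trans bot_le)

end CfsgLib.FixedGen
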