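import Mathlib
import Cfsg.Agent.Lib.FixedGen.CentralEnd
import Cfsg.Agent.Lib.FixedGen.Faithful

/-!
For `a` of odd prime order acting coprimely on a solvable `H`, the fixed points of `a` in `[H, a]`
are generated by the fixed points in the subgroups `[h, a]`.
-/

set_option autoImplicit false

open scoped commutatorElement

namespace CfsgLib.FixedGen

universe u

theorem dd_inf_centralizer_le {p : ℕ} [Fact p.Prime] (hp : p ≠ 2) (n : ℕ) :
    ∀ {G : Type u} [Group G] [Finite G] (a : G) (H : Subgroup G), a ^ p = 1 →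
      a ∈ Subgroup.normalizer (H : Set G) → (Nat.card H).Coprime p → Group.IsSolvable H →
      Nat.card H = n → dd a H ⊓ Subgroup.centralizer {a} ≤ kk a H := by
  induction n using Nat.strong_induction_on with
  | _ n ih =>
  intro G _ _ a H hap hN hcop hsol hn
  classical
  have hlt : ∀ {M : Subgroup G}, M < H → Nat.card M < n := fun {M} hM => hn ▸
    lt_of_le_of_ne (Subgroup.card_le_of_le hM.le)
      fun e => hM.ne (Subgroup.eq_of_le_of_card_ge hM.le e.ge)
  have hsub : ∀ M : Subgroup G, M < H → a ∈ Subgroup.normalizer (M : Set G) →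
      dd a M ⊓ Subgroup.centralizer {a} ≤ kk a H := fun M hM hMa =>
    (ih _ (hlt hM) a M hap hMa (hcop.coprime_dvd_left (Subgroup.card_dvd_of_le hM.le))
      (CfsgLib.Coprime.isSolvable_of_le hM.le hsol) rfl).trans (kk_mono hM.le)
  by_cases hD : dd a H = H
  swap
  · have h := hsub (dd a H) (lt_of_le_of_ne (dd_le hN) hD) (dd_invariant hN)
    rwa [dd_dd hap hN hcop] at h
  rw [hD]
  intro x hx
  by_contra hxk
  obtain ⟨hxH, hxC⟩ := Subgroup.mem_inf.mp hx
  have hne : ∃ x ∈ H, a * x = x * a ∧ x ∉ kk a H :=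
    ⟨x, hxH, mem_centralizer_self_iff.mp hxC, hxk⟩
  have hH : H ≠ ⊥ := fun e => hxk (by
    rw [e] at hxH; rw [Subgroup.mem_bot.mp hxH]; exact one_mem _)
  have hquot : ∀ U : Subgroup G, U ≤ H → U ≠ ⊥ → H ≤ Subgroup.normalizer (U : Set G) →
      a ∈ Subgroup.normalizer (U : Set G) → ∀ x ∈ H, a * x = x * a → x ∈ kk a H ⊔ U := by
    intro U hUH hU hUn hUa x hx hxa
    set N := Subgroup.normalizer (U : Set G) with hNdef
    haveI : (U.subgroupOf N).Normal :=
      Subgroup.normal_subgroupOf_iff_le_normalizer Subgroup.le_normalizer |>.mpr le_rfl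
    set f := QuotientGroup.mk' (U.subgroupOf N) with hf
    set a₁ : N := ⟨a, hUa⟩ with ha₁
    set H₁ := H.subgroupOf N with hH₁
    have hap₁ : a₁ ^ p = 1 := Subtype.ext (by simpa using hap)
    have hN₁ : a₁ ∈ Subgroup.normalizer (H₁ : Set N) := mem_normalizer_of_conj_le fun y hy =>
      (Subgroup.mem_normalizer_iff.mp hN (y : G)).mp hy
    have hcard₁ : Nat.card H₁ = Nat.card H :=
      Nat.card_congr (Subgroup.subgroupOfEquivOfLe hUn).toEquiv
    have hcop₁ : (Nat.card H₁).Coprime p := by rw [hcard₁]; exact hcop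
    haveI := hsol
    have hsol₁ : Group.IsSolvable H₁ :=
      Group.isSolvable_of_isSolvable_injective
        (f := (Subgroup.subgroupOfEquivOfLe hUn).toMonoidHom)
        (Subgroup.subgroupOfEquivOfLe hUn).injective
    have hdd : dd a₁ H₁ = H₁ := by
      apply Subgroup.map_injective N.subtype_injective
      rw [map_dd, Subgroup.map_subgroupOf_eq_of_le hUn]
      exact hD
    have hN' : f a₁ ∈ Subgroup.normalizer ((H₁.map f : Subgroup _) : Set (N ⧸ U.subgroupOf N)) :=
      mem_normalizer_of_conj_le fun y ⟨z, hz, hzy⟩ => ⟨a₁ * z * a₁⁻¹,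
        (Subgroup.mem_normalizer_iff.mp hN₁ z).mp hz, by rw [← hzy]; simp⟩
    have hcard : Nat.card (H₁.map f) < n := by
      rw [← hn, ← hcard₁]
      refine lt_of_le_of_ne (Nat.card_le_card_of_surjective _ (f.subgroupMap_surjective H₁)) fun e => ?_
      obtain ⟨u, hu⟩ := Subgroup.ne_bot_iff_exists_ne_one.mp hU
      have hinj : Function.Injective (f.subgroupMap H₁) :=
        ((Nat.bijective_iff_surjective_and_card _).mpr ⟨f.subgroupMap_surjective H₁, e.symm⟩).1
      set u₁ : H₁ := ⟨⟨u, hUn (hUH u.2)⟩, Subgroup.mem_subgroupOf.mpr (hUH u.2)⟩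
      have h1 : f.subgroupMap H₁ u₁ = f.subgroupMap H₁ 1 := Subtype.ext (by
        show f (u₁ : N) = f ((1 : H₁) : N)
        rw [OneMemClass.coe_one, map_one]
        exact (QuotientGroup.eq_one_iff _).mpr u.2)
      exact hu (Subtype.ext (congrArg (fun z : H₁ => ((z : N) : G)) (hinj h1)))
    have h := ih _ hcard (f a₁) (H₁.map f) (by rw [← map_pow, hap₁, map_one]) hN'
      (hcop₁.coprime_dvd_left (Subgroup.card_map_dvd _ _))
      (CfsgLib.Coprime.isSolvable_map f hsol₁) rfl
    set x₁ : N := ⟨x, hUn hx⟩ with hx₁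
    have hmem : f x₁ ∈ dd (f a₁) (H₁.map f) ⊓ Subgroup.centralizer {f a₁} := by
      refine Subgroup.mem_inf.mpr ⟨?_, mem_centralizer_self_iff.mpr ?_⟩
      · rw [← map_dd, hdd]
        exact Subgroup.mem_map_of_mem f (Subgroup.mem_subgroupOf.mpr hx)
      · rw [← map_mul, ← map_mul, show a₁ * x₁ = x₁ * a₁ from Subtype.ext hxa]
    obtain ⟨y, hy, hye⟩ := kk_map_le hap₁ hN₁ hcop₁ f (h hmem)
    have hy' : (y : G) ∈ kk a H := by
      have h2 := map_kk_le N.subtype a₁ H₁ (Subgroup.mem_map_of_mem N.subtype hy)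
      rwa [Subgroup.map_subgroupOf_eq_of_le hUn] at h2
    have h3 : (y : G)⁻¹ * x ∈ U :=
      Subgroup.mem_subgroupOf.mp ((QuotientGroup.eq (s := U.subgroupOf N)).mp hye)
    have := mul_mem (Subgroup.mem_sup_left (T := U) hy') (Subgroup.mem_sup_right (S := kk a H) h3)
    rwa [mul_inv_cancel_left] at this
  haveI : Finite (Subgroup G) := Finite.of_injective (fun K => (K : Set G)) SetLike.coe_injective
  obtain ⟨V, ⟨hV, hVH, hVn, hVa⟩, hVmin⟩ := (Set.toFinite {V : Subgroup G | V ≠ ⊥ ∧ V ≤ H ∧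
    H ≤ Subgroup.normalizer (V : Set G) ∧ a ∈ Subgroup.normalizer (V : Set G)}).exists_minimal
    ⟨H, hH, le_rfl, Subgroup.le_normalizer, hN⟩
  have hmin : ∀ U : Subgroup G, U ≤ V → H ≤ Subgroup.normalizer (U : Set G) →
      a ∈ Subgroup.normalizer (U : Set G) → U = ⊥ ∨ U = V := fun U hU hUn hUa =>
    or_iff_not_imp_left.mpr fun hne => le_antisymm hU (hVmin ⟨hne, hU.trans hVH, hUn, hUa⟩ hU)
  have hA : ∀ {K : Subgroup G}, a ∈ Subgroup.normalizer (K : Set G) →
      Subgroup.zpowers a ≤ Subgroup.normalizer (K : Set G) := Subgroup.zpowers_le.mpr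
  have hVcomm : ⁅V, V⁆ = ⊥ := by
    refine (hmin _ (CfsgLib.Coprime.commutator_le_left_of_le_normalizer Subgroup.le_normalizer)
      (CfsgLib.Coprime.le_normalizer_commutator hVn hVn)
      (Subgroup.zpowers_le.mp (CfsgLib.Coprime.le_normalizer_commutator (hA hVa) (hA hVa)))).resolve_right
      fun e => ?_
    haveI := CfsgLib.Coprime.isSolvable_of_le hVH hsol
    haveI : Nontrivial V := (Subgroup.nontrivial_iff_ne_bot V).mpr hV
    refine (Group.IsSolvable.commutator_lt_top_of_nontrivial (G := V)).ne ?_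
    apply Subgroup.map_injective V.subtype_injective
    rw [commutator_def, Subgroup.map_commutator, ← MonoidHom.range_eq_map, Subgroup.range_subtype]
    exact e
  have hVc : ∀ v ∈ V, ∀ w ∈ V, v * w = w * v := fun v hv w hw =>
    commutatorElement_eq_one_iff_mul_comm.mp (Subgroup.mem_bot.mp
      (hVcomm ▸ Subgroup.commutator_mem_commutator hv hw : ⁅v, w⁆ ∈ (⊥ : Subgroup G)))
  obtain ⟨r, hr, hrV⟩ : ∃ r : ℕ, r.Prime ∧ r ∣ Nat.card V :=
    Nat.exists_prime_and_dvd (fun h => hV (Subgroup.eq_bot_iff_card V |>.mpr h))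
  haveI : Fact r.Prime := ⟨hr⟩
  let E : Subgroup G :=
    { carrier := {v | v ∈ V ∧ v ^ r = 1}
      one_mem' := ⟨one_mem _, one_pow _⟩
      mul_mem' := fun {v w} hv hw => ⟨mul_mem hv.1 hw.1, by
        rw [(show Commute v w from hVc v hv.1 w hw.1).mul_pow, hv.2, hw.2, one_mul]⟩
      inv_mem' := fun {v} hv => ⟨inv_mem hv.1, by rw [inv_pow, hv.2, inv_one]⟩ }
  have hEinv : ∀ g, g ∈ Subgroup.normalizer (V : Set G) → g ∈ Subgroup.normalizer (E : Set G) :=
    fun g hg => mem_normalizer_of_conj_le fun v hv => ⟨(Subgroup.mem_normalizer_iff.mp hg v).mp hv.1,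
      by rw [conj_pow, hv.2, mul_one, mul_inv_cancel]⟩
  have hEV : E = V := by
    refine (hmin E (fun v hv => hv.1) (fun g hg => hEinv g (hVn hg)) (hEinv a hVa)).resolve_left
      fun e => ?_
    obtain ⟨v, hv⟩ := exists_prime_orderOf_dvd_card' (G := V) r hrV
    have h1 : (v : G) ∈ E := ⟨v.2, by rw [← hv, ← Subgroup.orderOf_coe, pow_orderOf_eq_one]⟩
    rw [e, Subgroup.mem_bot] at h1
    have hv1 : v = 1 := Subtype.ext h1
    rw [hv1, orderOf_one] at hv
    exact hr.ne_one hv.symm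
  have S : Setting p r a H V :=
    { hp := hp, hap := hap, hN := hN, hcop := hcop, hsol := hsol, hD := hD, hsub := hsub,
      hquot := hquot, hne := hne, hVH := hVH, hV := hV, hVn := hVn, hVa := hVa,
      hVexp := fun v hv => (show v ∈ E from hEV.symm ▸ hv).2, hVc := hVc, hVmin := hmin }
  by_cases hcen : ∀ v ∈ V, ∀ h ∈ H, h * v = v * h
  · exact central_false S hcen
  · exact faithful_false S hcen

end CfsgLib.FixedGen
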